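import Cfsg.Agent.BlocksB.FreeInertial.Main
import Mathlib.GroupTheory.SpecificGroups.Cyclic.Basic
import Mathlib.Data.ZMod.Basic

/-!
# `2`-blocks with homocyclic defect group of rank two

The inertial quotient permutes the three involutions regularly unless it is trivial, and it acts
freely on the defect group.
-/

set_option autoImplicit false
set_option linter.style.haveILetI false
set_option linter.unusedSectionVars false

namespace CfsgLib.FreeInertial

open Cfsg Finset CfsgLib.Block CfsgLib.Block.Chr CfsgLib.BrauerPairs CfsgLib.BlockStar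
  CfsgLib.BlockB
open scoped Classical

universe u

/-- An automorphism of odd period fixing all involutions of an abelian `2`-group is trivial. -/
theorem eq_self_of_fix_involutions {A : Type*} [CommGroup A] (hA : IsPGroup 2 A) (ψ : A →* A)
    {N : ℕ} (hN : Odd N) (hψ : ∀ x, ψ^[N] x = x) (hfix : ∀ x, x * x = 1 → ψ x = x) (x : A) :
    ψ x = x := by
  obtain ⟨j, hj⟩ := hA x
  induction j generalizing x with
  | zero => rw [pow_zero, pow_one] at hj; rw [hj, map_one]
  | succ j ih =>
    have h2 : ψ (x * x) = x * x := ih (x * x) (by rw [← sq, ← pow_mul, ← pow_succ', hj])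
    set w := ψ x * x⁻¹ with hw
    have hw2 : w * w = 1 := by
      rw [hw, mul_mul_mul_comm, ← mul_inv, ← map_mul, h2, mul_inv_cancel]
    have hx : ψ x = w * x := by rw [hw, inv_mul_cancel_right]
    clear_value w
    have hiter : ∀ k : ℕ, ψ^[k] x = w ^ k * x := fun k => by
      induction k with
      | zero => simp
      | succ k ihk =>
        rw [Function.iterate_succ_apply', ihk, map_mul, map_pow, hfix w hw2, hx, pow_succ,
          mul_assoc]
    have h3 := hiter N
    obtain ⟨k, rfl⟩ := hN
    rw [hψ, pow_succ, pow_mul, sq, hw2, one_pow, one_mul] at h3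
    rw [hx, ← h3]

variable {M : Ideal AlgInt} [M.IsPrime] [CharP (Residue M) 2] {G : Type u} [Group G] [Fintype G]

local notation "C[" Q "]" => Subgroup.centralizer (SetLike.coe Q)
local notation "N[" Q "]" => Subgroup.normalizer (SetLike.coe Q)

/-- A homocyclic group of rank two has at most four elements of square one. -/
theorem card_sq_eq_one_le {A : Type*} [Group A] [Fintype A] {N : ℕ} [NeZero N]
    (φ : A ≃* Multiplicative (ZMod N × ZMod N)) :
    (univ.filter fun x : A => x * x = 1).card ≤ 4 := by
  have h2 : (univ.filter fun a : ZMod N => 2 • a = 0).card ≤ 2 :=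
    IsAddCyclic.card_nsmul_eq_zero_le (α := ZMod N) two_pos
  calc (univ.filter fun x : A => x * x = 1).card
      ≤ ((univ.filter fun a : ZMod N => 2 • a = 0) ×ˢ
          (univ.filter fun a : ZMod N => 2 • a = 0)).card := by
        refine Finset.card_le_card_of_injOn (fun x => Multiplicative.toAdd (φ x)) (fun x hx => ?_)
          (fun x _ y _ h => φ.injective (Multiplicative.toAdd.injective h))
        have h1 := congrArg (fun y => Multiplicative.toAdd (φ y)) (mem_filter.1 hx).2
        simp only [map_mul, map_one, toAdd_mul, toAdd_one] at h1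
        rw [coe_product, Set.mem_prod]
        constructor
        · exact mem_filter.2 ⟨mem_univ _, by rw [two_nsmul]; exact congrArg Prod.fst h1⟩
        · exact mem_filter.2 ⟨mem_univ _, by rw [two_nsmul]; exact congrArg Prod.snd h1⟩
    _ ≤ 4 := by rw [card_product]; nlinarith

/-- **The counts of a `2`-block with homocyclic defect group of rank two.** -/
theorem homocyclic_counts (hM : IsPModular 2 M) {B : Set (IrrCharacter G)} (hB : IsPBlock M B)
    {D : Subgroup G} (hD : IsDefectGroup 2 M B D) {m : ℕ} (hm : 2 ≤ m)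
    (φ : D ≃* Multiplicative (ZMod (2 ^ m) × ZMod (2 ^ m))) :
    (blockRank 2 B = 1 ∧ Nat.card B = 4 ^ m) ∨
      (blockRank 2 B = 3 ∧ 3 * Nat.card B = 4 ^ m + 8) := by
  haveI : Fintype D := Fintype.ofFinite _
  have hb := isBlk_idem hM hB
  have hcard : Nat.card D = 4 ^ m := by
    rw [Nat.card_congr φ.toEquiv, show Nat.card (Multiplicative (ZMod (2 ^ m) × ZMod (2 ^ m))) =
      Nat.card (ZMod (2 ^ m) × ZMod (2 ^ m)) from Nat.card_congr Multiplicative.toAdd,
      Nat.card_prod, Nat.card_zmod, ← mul_pow]
    norm_num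
  have h16 : 16 ≤ Nat.card D := by
    rw [hcard]
    calc 16 = 4 ^ 2 := by norm_num
      _ ≤ 4 ^ m := Nat.pow_le_pow_right (by norm_num) hm
  have hP1 : D ≠ ⊥ := fun h => by rw [h, Subgroup.card_bot] at h16; omega
  have hab : ∀ x ∈ D, ∀ y ∈ D, x * y = y * x := fun x hx y hy =>
    congrArg Subtype.val (φ.injective (by rw [map_mul, map_mul, mul_comm]) :
      (⟨x, hx⟩ * ⟨y, hy⟩ : D) = ⟨y, hy⟩ * ⟨x, hx⟩)
  obtain ⟨e, hmax⟩ := exists_isMaxPair hb (isDef_of_isDefectGroup hM hB hD)
  obtain ⟨c, hc, hce⟩ : ∃ c : Set (IrrCharacter C[D]), IsPBlock M c ∧ idemIn M C[D] c = e :=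
    exists_idemIn_eq hM hmax.1.1.2
  subst hce
  have hP := hmax.1.1
  haveI : Fintype (C[D] : Subgroup G) := Fintype.ofFinite _
  have hind : IsInducedBlock M C[D] c B :=
    (induced_iff_br hM hP.1 (fun x hx => Subgroup.mem_centralizer_iff.mpr fun y hy =>
      hab y hy x hx) le_rfl (centralizer_le_normalizer D) hc hB).2 hmax.1.2
  set T := stab D (idemIn M C[D] c) with hT
  haveI hN : ((C[D] : Subgroup G).subgroupOf T).Normal :=
    (Subgroup.normal_subgroupOf_iff_le_normalizer (centralizer_le_stab hP)).mpr
      stab_le_normalizer_centralizer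
  set n := (C[D] : Subgroup G).relIndex T with hn
  have hodd : Odd n := Nat.not_even_iff_odd.1 fun h =>
    Inertial.not_dvd_inertial hM hB hP hmax hab h.two_dvd
  letI : CommGroup D :=
    { (inferInstance : Group D) with mul_comm := fun a b => Subtype.ext (hab a a.2 b b.2) }
  -- fixing an element is fixing all
  have hfree : ∀ g ∈ T, ∀ x ∈ D, x ≠ 1 → g * x * g⁻¹ = x → g ∈ (C[D] : Subgroup G) := by
    intro g hg x hx hx1 hfix
    have hpow : g ^ n ∈ (C[D] : Subgroup G) := by
      have h := Subgroup.pow_index_mem ((C[D] : Subgroup G).subgroupOf T) (⟨g, hg⟩ : T)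
      exact h
    let ψ : D →* D := MonoidHom.mk'
      (fun y => ⟨g * y * g⁻¹, (Subgroup.mem_normalizer_iff.1 hg.1 y).1 y.2⟩)
      fun a b => Subtype.ext (by simp [mul_assoc])
    have hiter : ∀ (k : ℕ) (y : D), ((ψ^[k] y : D) : G) = g ^ k * y * (g ^ k)⁻¹ := fun k y => by
      induction k with
      | zero => simp
      | succ k ih =>
        rw [Function.iterate_succ_apply']
        show g * ((ψ^[k] y : D) : G) * g⁻¹ = _
        rw [ih, pow_succ']; group
    have hψ : ∀ y : D, ψ^[n] y = y := fun y => Subtype.ext (by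
      rw [hiter, ← Subgroup.mem_centralizer_iff.1 hpow y y.2, mul_inv_cancel_right])
    have hψinj : Function.Injective ψ := fun a b h => Subtype.ext
      (mul_left_cancel (mul_right_cancel (congrArg Subtype.val h)))
    -- a fixed involution
    obtain ⟨z, hz1, hz2, hzf⟩ : ∃ z : D, z ≠ 1 ∧ z * z = 1 ∧ ψ z = z := by
      set y : D := ⟨x, hx⟩
      obtain ⟨j, hj⟩ := hP.1 y
      have hex : ∃ i, y ^ 2 ^ i = 1 := ⟨j, hj⟩
      have hi : Nat.find hex ≠ 0 := fun h0 => hx1 (by
        have := Nat.find_spec hex
        rw [h0, pow_zero, pow_one] at this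
        exact congrArg Subtype.val this)
      obtain ⟨i, hi'⟩ := Nat.exists_eq_succ_of_ne_zero hi
      refine ⟨y ^ 2 ^ i, Nat.find_min hex (by omega), ?_, by rw [map_pow]; congr 1; exact Subtype.ext hfix⟩
      rw [← pow_add, ← two_mul, ← pow_succ']
      have := Nat.find_spec hex
      rwa [hi'] at this
    have hsq : ∀ y : D, y * y = 1 → ψ y = y := by
      intro y hy
      by_contra hne
      have hy1 : y ≠ 1 := fun h => hne (by rw [h, map_one])
      set y' := ψ y with hy'
      have hy'2 : y' * y' = 1 := by rw [hy', ← map_mul, hy, map_one]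
      have hyz : y ≠ z := fun h => hne (by rw [hy', h, hzf])
      have h4 : ({1, z, y, y'} : Finset D) = univ.filter fun x : D => x * x = 1 := by
        refine Finset.eq_of_subset_of_card_le (fun w hw => ?_) ?_
        · simp only [mem_insert, mem_singleton] at hw
          refine mem_filter.2 ⟨mem_univ _, ?_⟩
          rcases hw with rfl | rfl | rfl | rfl
          · rw [mul_one]
          · exact hz2
          · exact hy
          · exact hy'2
        · have h1 : y' ≠ 1 := fun h => hy1 (hψinj (by rw [← hy', h, map_one]))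
          have h2 : y' ≠ z := fun h => hyz (hψinj (by rw [← hy', h, hzf]))
          have h3 : (univ.filter fun x : D => x * x = 1).card ≤ 4 := by
            convert card_sq_eq_one_le φ
          refine h3.trans (le_of_eq ?_)
          rw [card_insert_of_notMem (by simp [hz1.symm, hy1.symm, h1.symm]),
            card_insert_of_notMem (by simp [hyz.symm, h2.symm]),
            card_insert_of_notMem (by simpa using Ne.symm hne), card_singleton]
      have hy'' : ψ y' = y := by
        have h5 : ψ y' ∈ univ.filter fun x : D => x * x = 1 :=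
          mem_filter.2 ⟨mem_univ _, by rw [← map_mul, hy'2, map_one]⟩
        rw [← h4] at h5
        simp only [mem_insert, mem_singleton] at h5
        rcases h5 with h | h | h | h
        · exact absurd (hψinj (h.trans (map_one ψ).symm)) fun h' => hy1 (hψinj (by
            rw [← hy', h', map_one]))
        · exact absurd (hψinj (h.trans hzf.symm)) fun h' => hyz (hψinj (by rw [← hy', h', hzf]))
        · exact h
        · exact absurd (hψinj (h.trans hy')) hne
      have h2it : ∀ k : ℕ, ψ^[2 * k] y = y := fun k => by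
        induction k with
        | zero => rfl
        | succ k ih =>
          rw [show 2 * (k + 1) = 2 + 2 * k by ring, Function.iterate_add_apply, ih]
          show ψ (ψ y) = y
          rw [← hy', hy'']
      obtain ⟨k, hk⟩ := hodd
      have h6 := hψ y
      rw [hk, add_comm, Function.iterate_add_apply, h2it] at h6
      exact hne h6
    refine Subgroup.mem_centralizer_iff.2 fun y hy => ?_
    have h := congrArg Subtype.val (eq_self_of_fix_involutions hP.1 ψ hodd hψ hsq ⟨y, hy⟩)
    exact (mul_inv_eq_iff_eq_mul.1 h).symm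
  -- the index is at most three
  obtain ⟨z, hz⟩ : ∃ z : D, orderOf z = 2 := by
    refine exists_prime_orderOf_dvd_card' 2 ?_
    rw [hcard]
    exact dvd_pow (by norm_num) (by omega)
  have hz1 : z ≠ 1 := fun h => by rw [h, orderOf_one] at hz; omega
  have hzz : z * z = 1 := by rw [← sq, ← hz, pow_orderOf_eq_one]
  have hn3 : n ≤ 3 := by
    haveI : Fintype (T ⧸ (C[D] : Subgroup G).subgroupOf T) := Fintype.ofFinite _
    let act : T → D := fun g =>
      ⟨(g : G) * z * (g : G)⁻¹, (Subgroup.mem_normalizer_iff.1 g.2.1 z).1 z.2⟩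
    have h := Finset.card_le_card_of_injOn
      (s := (univ : Finset (T ⧸ (C[D] : Subgroup G).subgroupOf T)))
      (t := (univ.filter fun x : D => x * x = 1).erase 1) (fun q => act q.out) ?_ ?_
    · have h4 : (univ.filter fun x : D => x * x = 1).card ≤ 4 := by
        convert card_sq_eq_one_le φ
      rw [card_univ, ← Nat.card_eq_fintype_card, ← Subgroup.index_eq_card,
        card_erase_of_mem (by simp)] at h
      show (C[D] : Subgroup G).relIndex T ≤ 3
      rw [Subgroup.relIndex]
      omega
    · intro q _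
      refine mem_erase.2 ⟨fun h => hz1 (Subtype.ext (conj_eq_one_iff.1 (congrArg Subtype.val h))),
        mem_filter.2 ⟨mem_univ _, Subtype.ext ?_⟩⟩
      show ((q.out : T) : G) * z * ((q.out : T) : G)⁻¹ * (((q.out : T) : G) * z * ((q.out : T) : G)⁻¹) = 1
      rw [conj_mul, show (z : G) * z = 1 from congrArg Subtype.val hzz, mul_one, mul_inv_cancel]
    · intro q _ r _ hqr
      have h1 : (((q.out : T) : G))⁻¹ * ((r.out : T) : G) ∈ (C[D] : Subgroup G) := by
        refine hfree _ (mul_mem (inv_mem q.out.2) r.out.2) z z.2 (fun h => hz1 (Subtype.ext h)) ?_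
        have h2 : ((q.out : T) : G) * z * ((q.out : T) : G)⁻¹ =
            ((r.out : T) : G) * z * ((r.out : T) : G)⁻¹ := congrArg Subtype.val hqr
        calc ((q.out : T) : G)⁻¹ * (r.out : T) * z * (((q.out : T) : G)⁻¹ * (r.out : T))⁻¹
            = ((q.out : T) : G)⁻¹ * (((r.out : T) : G) * z * ((r.out : T) : G)⁻¹) *
              (q.out : T) := by group
          _ = z := by rw [← h2]; group
      rw [← QuotientGroup.out_eq' q, ← QuotientGroup.out_eq' r, QuotientGroup.eq]
      exact Subgroup.mem_subgroupOf.2 (by push_cast; exact h1)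
  have hn13 : n = 1 ∨ n = 3 := by
    obtain ⟨k, hk⟩ := hodd
    omega
  have hcyc : IsCyclic (T ⧸ (C[D] : Subgroup G).subgroupOf T) := by
    have hcardQ : Nat.card (T ⧸ (C[D] : Subgroup G).subgroupOf T) = n := by
      rw [← Subgroup.index_eq_card]; rfl
    rcases hn13 with h | h
    · haveI := (Nat.card_eq_one_iff_unique.1 (hcardQ.trans h)).1
      infer_instance
    · haveI : Fact (Nat.Prime 3) := ⟨Nat.prime_three⟩
      exact isCyclic_of_prime_card (p := 3) (hcardQ.trans h)
  have hEab : ∀ g ∈ T, ∀ h ∈ T, g * h * g⁻¹ * h⁻¹ ∈ (C[D] : Subgroup G) := by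
    intro g hg h hh
    letI := hcyc.commGroup
    have h1 : ((⟨g, hg⟩ * ⟨h, hh⟩ * ⟨g, hg⟩⁻¹ * ⟨h, hh⟩⁻¹ : T) :
        T ⧸ (C[D] : Subgroup G).subgroupOf T) = 1 := by
      simp only [QuotientGroup.mk_mul, QuotientGroup.mk_inv]
      rw [mul_inv_eq_one, mul_inv_eq_iff_eq_mul, mul_comm]
    exact Subgroup.mem_subgroupOf.1 ((QuotientGroup.eq_one_iff _).1 h1)
  obtain ⟨t, S⟩ := exists_freeData hM hB hD hP1 hab hind hEab hfree
  obtain ⟨r, hk, hP', hle, hsmall⟩ := S.counts
  have hrank : blockRank 2 B = n := by
    rcases hsmall hn3 with h | ⟨h1, h2⟩ | ⟨h1, h2⟩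
    · exact h
    · rw [h1, h2] at hP'; omega
    · rcases h2 with h2 | h2 <;> (rw [h1, h2] at hP'; omega)
  rw [← hn] at hP'
  rcases hn13 with h | h
  · left
    rw [h] at hP'
    omega
  · right
    rw [h] at hP'
    omega

end CfsgLib.FreeInertial
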