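import Cfsg.Agent.BlocksB.FreeInertial.Trace
import Cfsg.Agent.BlocksB.Cyclic.DefectOne
import Cfsg.Agent.BlocksB.Cyclic.Degree
import Cfsg.Agent.BlocksB.InertialAbelian
import Cfsg.Agent.BlocksB.AbelianTwist

/-!
# Local values at an element of an abelian defect group with nilpotent local block
-/

set_option autoImplicit false
set_option linter.style.haveILetI false
set_option linter.unusedSectionVars false

namespace CfsgLib.FreeInertial

open Cfsg Finset CfsgLib.Block CfsgLib.Block.Chr CfsgLib.BrauerPairs CfsgLib.BlockStar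
  CfsgLib.BlockB CfsgLib.SL2C
open scoped ComplexConjugate
open scoped Classical

universe u

variable {M : Ideal AlgInt} [M.IsPrime] {p : ℕ} [Fact p.Prime] [CharP (Residue M) p]

section central

variable {K : Type u} [Group K] [Fintype K]

local notation "𝕜" => Residue M
local notation "Z[" x "]" => Subgroup.zpowers x
local notation "C[" Q "]" => Subgroup.centralizer (SetLike.coe Q)

/-- A central element acts by a root of unity. -/
theorem exists_root_scalar (ξ : IrrCharacter K) {z : K} (hz : ∀ y, z * y = y * z) :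
    ∃ w : ℂ, IsIntegral ℤ w ∧ ‖w‖ = 1 ∧ ∀ y, (ξ : K → ℂ) (z * y) = w * (ξ : K → ℂ) y := by
  obtain ⟨w, hw, hwy⟩ := exists_central_scalar ξ.2 hz
  have hpow : ∀ k : ℕ, (ξ : K → ℂ) (z ^ k) = w ^ k * (ξ : K → ℂ) 1 := by
    intro k
    induction k with
    | zero => simp
    | succ k ih => rw [pow_succ', hwy, ih, pow_succ', mul_assoc]
  have h1 : w ^ orderOf z = 1 := by
    have h := hpow (orderOf z)
    rw [pow_orderOf_eq_one] at h
    exact (mul_eq_right₀ (irr_one_ne_zero ξ)).1 h.symm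
  exact ⟨w, hw, Complex.norm_eq_one_of_pow_eq_one h1 (orderOf_pos z).ne', hwy⟩

/-- An idempotent in a block pairs to zero with the characters outside the block. -/
theorem sval_block_eq_zero {f : Set (IrrCharacter K)} (hf : IsPBlock M f) {ξ : IrrCharacter K}
    (hξ : ξ ∉ f) (z : K) (b : LA M K) : sval ξ z (b * Cyclic.liftIdem hf) = 0 := by
  letI := irrFintype (G := K)
  simp only [sval, coeff_mul']
  push_cast
  simp only [sum_mul]
  rw [sum_comm]
  refine sum_eq_zero fun h _ => ?_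
  have h1 : ∑ k : K, blockCoeff f k * (ξ : K → ℂ) (k * (z * h)) = 0 := by
    rw [← blockPart_eq_conv f (isClassFunction_irr ξ), blockPart_irr, if_neg hξ]
    rfl
  rw [← mul_zero (b.coeff h : ℂ), ← h1, mul_sum]
  refine Fintype.sum_equiv (Equiv.mulLeft h⁻¹) _ _ fun g => ?_
  rw [Equiv.coe_mulLeft, Cyclic.coeff_liftIdem, mul_assoc]
  congr 2
  rw [classFun_mul_comm (isClassFunction_irr ξ) (h⁻¹ * g) (z * h)]
  rw [show z * h * (h⁻¹ * g) = z * g by group]
  exact classFun_mul_comm (isClassFunction_irr ξ) g z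

/-- The value over a central element. -/
theorem val_central_idem (hM : IsPModular p M) {f : Set (IrrCharacter K)} (hf : IsPBlock M f)
    (ξ : IrrCharacter K) {z : K} (hz : ∀ y, z * y = y * z) (h : PElt p z 1)
    {ε : MonoidAlgebra 𝕜 K} (hε : ε * ε = ε) (hεf : ε * idem M f = ε) {w : ℂ}
    (hw : ∀ y, (ξ : K → ℂ) (z * y) = w * (ξ : K → ℂ) y) :
    val ξ z 1 ε = if ξ ∈ f then w * val ξ 1 1 ε else 0 := by
  obtain ⟨b, hb, hbred⟩ := exists_lift_plain (M := M) hε
  set b' := b * Cyclic.liftIdem hf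
  have hcom : Commute b (Cyclic.liftIdem hf) := by
    rw [← MonoidAlgebra.sum_coeff_single b]
    refine Commute.sum_left _ _ _ fun g _ => ?_
    rw [show (MonoidAlgebra.single g (b.coeff g) : LA M K) =
      b.coeff g • MonoidAlgebra.single g (1 : localRing M) by rw [MonoidAlgebra.smul_single', mul_one]]
    exact (Cyclic.commute_liftIdem hf g).smul_left _
  have hb' : b' * b' = b' := by
    show b * Cyclic.liftIdem hf * (b * Cyclic.liftIdem hf) = _
    rw [mul_assoc, ← mul_assoc (Cyclic.liftIdem hf), ← hcom.eq, mul_assoc b (Cyclic.liftIdem hf),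
      Cyclic.liftIdem_idem hf, ← mul_assoc, hb]
  have hred : redA b' = ε := by rw [map_mul, hbred, Cyclic.redA_liftIdem, hεf]
  have hc : ∀ y : K, y * y⁻¹ = 1 := mul_inv_cancel
  have hzc : Commute (MonoidAlgebra.single z (1 : localRing M)) b' :=
    (commute_single_iff z b').2 fun g => by rw [hz g, mul_inv_cancel_right]
  have h1c : Commute (MonoidAlgebra.single (1 : K) (1 : localRing M)) b' :=
    (commute_single_iff _ _).2 fun g => by simp
  have hfix : FixBy (Z[z] ⊔ Z[(1 : K)]) ε := fixBy_of_coeff fun t ht g => by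
    have htz : ∀ y, t * y = y * t := fun y => by
      have hle : Z[z] ⊔ Z[(1 : K)] ≤ Subgroup.center K := sup_le
        (Subgroup.zpowers_le.2 (Subgroup.mem_center_iff.2 fun y => (hz y).symm))
        (Subgroup.zpowers_le.2 (one_mem _))
      exact (Subgroup.mem_center_iff.1 (hle ht) y).symm
    congr 1
    rw [mul_assoc, ← htz, ← mul_assoc]
    simp
  rw [val_eq hM ξ h hb' hzc h1c hε hfix (by rw [hred]), one_mul,
    val_one_eq hM ξ hb' hε hred]
  split_ifs with hξ
  · simp only [sval, mul_one, mul_sum]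
    refine sum_congr rfl fun g _ => ?_
    rw [← hz g, hw]
    ring
  · exact sval_block_eq_zero hf hξ z b

end central

variable {G : Type u} [Group G] [Fintype G]

local notation "𝕜" => Residue M
local notation "Z[" x "]" => Subgroup.zpowers x
local notation "C[" Q "]" => Subgroup.centralizer (SetLike.coe Q)
local notation "N[" Q "]" => Subgroup.normalizer (SetLike.coe Q)

/-- The local values at an element of the defect group. -/
structure LocalVals (p : ℕ) [Fact p.Prime] [CharP (Residue M) p] (P : Subgroup G) (u : G)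
    (eu : MonoidAlgebra (Residue M) G) (v : IrrCharacter G → ℂ) (δ : ℕ) : Prop where
  pos : 0 < δ
  contrib : ∀ χ ψ, contribR p χ ψ u eu = v χ * conj (v ψ) * (Nat.card P : ℂ)⁻¹
  integral : ∀ χ, IsIntegral ℤ (v χ)
  deg : (δ : ℂ) ^ 2 * Nat.card P = Nat.card C[Z[u]] * beta eu
  rank : ∀ ε : MonoidAlgebra 𝕜 G, ε * ε = ε → SuppIn C[Z[u]] ε → ε * eu = ε →
    ∃ r : ℕ, (∀ χ, val χ u 1 ε = r * v χ) ∧
      (r : ℂ) * δ * Nat.card P = Nat.card C[Z[u]] * beta ε

variable {B : Set (IrrCharacter G)} {P : Subgroup G} {c : Set (IrrCharacter C[P])}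

theorem exists_localVals (hM : IsPModular p M) (hB : IsPBlock M B)
    (hmax : IsMaxPair p (idem M B) (P, idemIn M C[P] c))
    (hab : ∀ x ∈ P, ∀ y ∈ P, x * y = y * x) (hcB : IsPBlock M c) {u : G} (hu : u ∈ P)
    (hfree : ∀ t ∈ stab P (idemIn M C[P] c), t ∈ (C[Z[u]] : Subgroup G) →
      t ∈ (C[P] : Subgroup G)) :
    ∃ v δ, LocalVals (M := M) p P u (subBlk p P (idemIn M C[P] c) u) v δ := by
  set e := idemIn M C[P] c
  have hP : IsPair p (P, e) := hmax.1.1
  have hZP : Z[u] ≤ P := Subgroup.zpowers_le.2 hu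
  set L := C[Z[u]] with hL
  have hPC : P ≤ L := fun x hx => mem_cz.2 (hab x hx u hu)
  obtain ⟨f, hf⟩ := Inertial.exists_inducedIn hM hP.1 hcB hab hZP
  haveI := Fintype.ofFinite L
  letI := irrFintype (G := L)
  obtain ⟨e', hee', hP', hmax'⟩ := Inertial.local_maxPair hM hB hP hmax hab hZP hf
  set P' := P.subgroupOf L with hP'def
  haveI := Fintype.ofFinite P'
  have hfB : IsPBlock M f := hf.2.1
  have hnil : IsNil p (idem M f) := ((isNilpotentBlock_iff hM).1
    (Inertial.isNilpotentBlock_local hM hB hP hmax hab hZP hfree hf)).2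
  have heu : emb L (idem M f) = subBlk p P e u := by
    rw [← idemIn_eq]
    exact ple_unique hP (Inertial.ple_of_inducedIn hM hP hab hZP hf) (subBlk_ple hP hu)
  obtain ⟨χ₀, hχ₀, h0⟩ := exists_height_zero hM hfB
  obtain ⟨Φ, hreg, -⟩ := exists_characters hM hfB hnil hmax' hχ₀ h0
  have hab' : ∀ a b : P', a * b = b * a := fun a b =>
    Subtype.ext (Subtype.ext (hab _ a.2 _ b.2))
  have hcardP : Nat.card P' = Nat.card P :=
    Nat.card_congr (Subgroup.subgroupOfEquivOfLe hPC).toEquiv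
  have hfreg : ∀ ξ ∈ f, ∀ s : L, ¬ p ∣ orderOf s → (ξ : L → ℂ) s = (χ₀ : L → ℂ) s := by
    intro ξ hξ s hs
    obtain ⟨ζ, hζ⟩ := Φ.surjective ⟨ξ, hξ⟩
    have hz : charDegree (ζ : P' → ℂ) = 1 := by
      have h2 := CfsgLib.Char.IsIrrCharacter.apply_one_eq_one ζ.2 hab'
      rw [(irr_one ζ).1] at h2
      exact_mod_cast h2
    have h1 := hreg ζ s hs
    rwa [hζ, hz, Nat.cast_one, one_mul] at h1
  have hfcard : (univ.filter (· ∈ f)).card = Nat.card P := by
    rw [← hcardP, ← Fintype.card_subtype, ← Nat.card_eq_fintype_card,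
      show Nat.card {x // x ∈ f} = Nat.card f from rfl, ← Nat.card_congr Φ,
      ← card_dual hab' |>.trans Nat.card_eq_fintype_card.symm, ← Nat.card_eq_fintype_card]
    exact Nat.card_congr (CfsgLib.Char.linearCharEquiv.trans (Equiv.subtypeUnivEquiv fun χ =>
      CfsgLib.Char.IsIrrCharacter.apply_one_eq_one χ.2 hab')).symm
  let u' : L := ⟨u, hPC hu⟩
  have hu' : u' ∈ P' := Subgroup.mem_subgroupOf.2 hu
  have hzc : ∀ y : L, u' * y = y * u' := fun y => Subtype.ext (mem_cz.1 y.2).symm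
  choose w hwi hwn hw using fun ξ : IrrCharacter L => exists_root_scalar ξ hzc
  have hsub : subBlk p P' e' u' = idem M f :=
    Cyclic.eq_idem_of_central hM hfB hzc
      ((isPairOf_iff_of_ple (isBlk_idem hM hfB) (subBlk_ple hP' hu') hP').2 hmax'.1)
  have hp1 : ¬ p ∣ orderOf (1 : L) := by rw [orderOf_one]; exact hM.1.not_dvd_one
  set δ := charDegree (χ₀ : L → ℂ)
  have hdeg : ∀ ξ ∈ f, (ξ : L → ℂ) 1 = (δ : ℂ) := fun ξ hξ => by
    rw [hfreg ξ hξ 1 hp1, (irr_one χ₀).1]
  have hPE : ∀ s : L, ¬ p ∣ orderOf s → PElt p u' s := fun s hs =>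
    ⟨by obtain ⟨j, hj⟩ := mem_pSet.1 (mem_pSet_of_mem hP' hu'); exact ⟨j, hj⟩, hs, hzc s⟩
  have hPG : ∀ s : L, ¬ p ∣ orderOf s → PElt p (u' : G) (s : G) := fun s hs =>
    ⟨by obtain ⟨j, hj⟩ := mem_pSet.1 (mem_pSet_of_mem hP hu); exact ⟨j, hj⟩,
      by rwa [Subgroup.orderOf_coe], (hPE s hs).comm.map L.subtype⟩
  have hN : ∀ (χ : IrrCharacter G) (ξ : IrrCharacter L), ∃ m : ℕ,
      classInner (fun l : L => (χ : G → ℂ) l) (ξ : L → ℂ) = (m : ℂ) := fun χ ξ =>
    CfsgLib.Char.IsCharacter.exists_classInner_eq_natCast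
      (CfsgLib.Char.IsCharacter.restrict (isCharacter_irr χ) L) ξ.2
  choose N hN using hN
  let v : IrrCharacter G → ℂ := fun χ => ∑ ξ ∈ univ.filter (· ∈ f), (N χ ξ : ℂ) * w ξ
  -- the values at the block
  have hblock : ∀ χ : IrrCharacter G, ∀ s : L, ¬ p ∣ orderOf s →
      val χ u (s : G) (subBlk p P e u) = v χ * (χ₀ : L → ℂ) s := by
    intro χ s hs
    rw [← heu]
    refine (Cyclic.val_emb hM L χ (hPE s hs) (hPG s hs)
      (isBlk_idem hM hfB).idem ((isBlk_idem hM hfB).fixBy.mono le_top)).trans ?_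
    simp only [v, sum_mul, sum_filter]
    refine sum_congr rfl fun ξ _ => ?_
    rw [Cyclic.val_central hM hfB ξ hzc (hPE s hs), hN]
    split_ifs with hξ
    · rw [hw, hfreg ξ hξ s hs]; ring
    · simp
  -- the rank
  have hrank : ∀ ε : MonoidAlgebra 𝕜 L, ε * ε = ε → ε * idem M f = ε → ∀ ξ ∈ f,
      val ξ 1 1 ε = val χ₀ 1 1 ε := by
    intro ε hε hεf ξ hξ
    obtain ⟨b, hb, hbred⟩ := exists_lift_plain (M := M) hε
    rw [val_one_eq hM ξ hb hε hbred, val_one_eq hM χ₀ hb hε hbred, ← sub_eq_zero]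
    simp only [sval, mul_one, ← sum_sub_distrib, ← mul_sub]
    exact sum_coeff_mul_eq_zero hM hb (θ := fun g => (ξ : L → ℂ) g - (χ₀ : L → ℂ) g)
      (fun a g => by simp only [isClassFunction_irr ξ a g, isClassFunction_irr χ₀ a g])
      fun g hg => sub_eq_zero.2 (hfreg ξ hξ g hg)
  have hbeta : ∀ ε : MonoidAlgebra 𝕜 L, ε * ε = ε → ε * idem M f = ε →
      val χ₀ 1 1 ε * δ * Nat.card P = (Nat.card L : ℂ) * beta ε := by
    intro ε hε hεf
    rw [← sum_deg_mul_val ε, ← sum_filter_add_sum_filter_not univ (· ∈ f),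
      sum_congr rfl (fun ξ hξ => by
        rw [hdeg ξ (mem_filter.1 hξ).2, hrank ε hε hεf ξ (mem_filter.1 hξ).2]),
      sum_eq_zero (s := univ.filter fun ξ => ¬ ξ ∈ f) fun ξ hξ => ?_, sum_const, hfcard,
      nsmul_eq_mul, add_zero]
    · ring
    · rw [val_central_idem hM hfB ξ (z := (1 : L)) (fun y => by simp) pElt_one_one hε hεf
        (w := 1) (fun y => by simp), if_neg (mem_filter.1 hξ).2, mul_zero]
  refine ⟨v, δ, (irr_one χ₀).2, fun χ ψ => ?_, fun χ =>
    IsIntegral.sum _ fun ξ _ => isIntegral_algebraMap (x := (N χ ξ : ℤ)) |>.mul (hwi ξ), ?_, ?_⟩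
  · -- contributions
    have hone : contribR p χ₀ χ₀ u' (idem M f) = (Nat.card P : ℂ)⁻¹ := by
      have h1 := aFun_eq_one hM hfB hnil hmax' hχ₀ h0 hu'
      have hI : P' ⊓ C[Z[u']] = P' := inf_eq_left.2 fun y _ => mem_cz.2 (hzc y).symm
      rw [aFun, hI, hcardP, hsub] at h1
      exact eq_inv_of_mul_eq_one_right h1
    have htop : (C[Z[u']] : Subgroup L) = ⊤ := Cyclic.centralizer_zpowers_of_central hzc
    rw [contribR, htop, Subgroup.card_top] at hone
    rw [← hone, contribR, mul_left_comm (v χ * conj (v ψ))]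
    congr 1
    rw [mul_sum]
    symm
    refine sum_bij (fun s _ => (s : G)) ?_ ?_ ?_ ?_
    · intro s hs
      obtain ⟨-, -, h2⟩ := mem_filter.1 hs
      exact mem_filter.2 ⟨mem_univ _, s.2, by rwa [Subgroup.orderOf_coe]⟩
    · exact fun _ _ _ _ h => Subtype.ext h
    · intro g hg
      obtain ⟨-, h1, h2⟩ := mem_filter.1 hg
      exact ⟨⟨g, h1⟩, mem_filter.2 ⟨mem_univ _, Subgroup.mem_top _,
        by rwa [← Subgroup.orderOf_coe]⟩, rfl⟩
    · intro s hs
      obtain ⟨-, -, h2⟩ := mem_filter.1 hs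
      rw [hblock χ s h2, hblock ψ s h2, Cyclic.val_central hM hfB χ₀ hzc (hPE s h2), if_pos hχ₀,
        hw, map_mul, map_mul]
      have h3 : w χ₀ * conj (w χ₀) = 1 := by
        rw [Complex.mul_conj', hwn]; simp
      linear_combination (v χ * conj (v ψ) * (χ₀ : L → ℂ) s * conj ((χ₀ : L → ℂ) s)) * h3
  · have h := hbeta (idem M f) (isBlk_idem hM hfB).idem (isBlk_idem hM hfB).idem
    rw [Cyclic.val_central hM hfB χ₀ (u := (1 : L)) (fun y => by simp) pElt_one_one, if_pos hχ₀,
      one_mul, (irr_one χ₀).1] at h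
    rw [← heu, beta_emb hM L (isBlk_idem hM hfB).idem, ← h, sq]
  · intro ε hε hsupp hεe
    set ε' := restr L ε with hε'
    have hemb : emb L ε' = ε := emb_restr L hsupp
    have hεε : ε' * ε' = ε' := emb_injective L (by rw [map_mul, hemb, hε])
    have hεf : ε' * idem M f = ε' := emb_injective L (by rw [map_mul, hemb, heu, hεe])
    obtain ⟨b, hb, hbred⟩ := exists_lift_plain (M := M) hεε
    obtain ⟨r, hr⟩ : ∃ r : ℕ, val χ₀ 1 1 ε' = (r : ℂ) := by
      obtain ⟨n, ρ, hρ⟩ := isCharacter_sval χ₀ hb (K := (⊥ : Subgroup L)) fun y hy => by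
        rw [Subgroup.mem_bot.1 hy]
        exact (commute_single_iff _ _).2 fun g => by simp
      refine ⟨n, ?_⟩
      rw [val_one_eq hM χ₀ hb hεε hbred]
      have h1 := congrFun hρ 1
      rw [Representation.char_one, Module.finrank_fin_fun] at h1
      exact h1.symm
    refine ⟨r, fun χ => ?_, ?_⟩
    · rw [← hemb]
      refine (Cyclic.val_emb hM L χ (hPE 1 hp1) (hPG 1 hp1) hεε
          (fixBy_of_coeff fun t ht g => by
            have htz : ∀ y, t * y = y * t := fun y => by
              have hle : Z[u'] ⊔ Z[(1 : L)] ≤ Subgroup.center L := sup_le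
                (Subgroup.zpowers_le.2 (Subgroup.mem_center_iff.2 fun y => (hzc y).symm))
                (Subgroup.zpowers_le.2 (one_mem _))
              exact (Subgroup.mem_center_iff.1 (hle ht) y).symm
            congr 1
            rw [mul_assoc, ← htz, ← mul_assoc]
            simp)).trans ?_
      simp only [v, mul_sum, sum_filter]
      refine sum_congr rfl fun ξ _ => ?_
      rw [val_central_idem hM hfB ξ hzc (hPE 1 hp1) hεε hεf (hw ξ), hN]
      split_ifs with hξ
      · rw [hrank ε' hεε hεf ξ hξ, hr]; ring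
      · simp
    · rw [← hr, ← hemb, beta_emb hM L hεε]
      exact hbeta ε' hεε hεf

end CfsgLib.FreeInertial
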