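import Cfsg.Agent.BlocksB.Cyclic.Coherence

/-!
# The number of coordinates of vectors with the inner products of exceptional differences
-/

set_option autoImplicit false

namespace CfsgLib.FreeInertial

open Finset CfsgLib.Cyclic
open scoped Classical

variable {X I : Type*} [Fintype X] [Fintype I]

/-- A square at most three is at most one. -/
theorem sq_eq_one_of_le_three {a : ℤ} (ha : a ≠ 0) (h : a * a ≤ 3) : a * a = 1 := by
  have h1 : a ≤ 1 := by nlinarith
  have h2 : -1 ≤ a := by nlinarith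
  interval_cases a <;> simp_all

/-- **At most `n` coordinates beside the vertices.** -/
theorem count_le (D : I → X → ℤ) (w : X → ℤ) (hw : ∀ x, 0 < w x) {n l : ℕ} (hl0 : 0 < l)
    (hX : Fintype.card X = l + Fintype.card I) (hI : 0 < Fintype.card I)
    (hD : ∀ i j, ∑ x, D i x * D j x = (n : ℤ) + if i = j then 1 else 0)
    (hw0 : ∀ i, ∑ x, w x * D i x = 0) (hne : ∀ x, ∃ i, D i x ≠ 0) :
    l ≤ n ∧ (n ≤ 3 → l = n ∨ (n = 2 ∧ Fintype.card I = 3) ∨
      (n = 3 ∧ (Fintype.card I = 3 ∨ Fintype.card I = 4))) := by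
  obtain ⟨i₀⟩ := Fintype.card_pos_iff.1 hI
  by_cases hI1 : Fintype.card I = 1
  · have h1 : ∀ x, D i₀ x ≠ 0 := fun x => by
      obtain ⟨i, hi⟩ := hne x
      rwa [Fintype.card_le_one_iff.1 hI1.le i i₀] at hi
    have h1' : ∀ x ∈ (univ : Finset X), 1 ≤ D i₀ x * D i₀ x := fun x _ => by
      have := mul_self_pos.2 (h1 x); omega
    have h2 : ∑ x, D i₀ x * D i₀ x = (n : ℤ) + 1 := by rw [hD, if_pos rfl]
    have h3 : (univ : Finset X).card = l + 1 := by rw [card_univ, hX, hI1]
    have h4 : ((univ : Finset X).card : ℤ) ≤ (n : ℤ) + 1 := by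
      rw [← h2]
      simpa using card_nsmul_le_sum univ (fun x => D i₀ x * D i₀ x) 1 h1'
    refine ⟨by omega, fun hn3 => Or.inl ?_⟩
    have h5 : ∀ x, D i₀ x * D i₀ x = 1 := fun x => by
      refine sq_eq_one_of_le_three (h1 x) ?_
      -- there is a second coordinate
      obtain ⟨y, hy⟩ : ∃ y, y ≠ x :=
        Fintype.exists_ne_of_one_lt_card (by omega) x
      have h6 := sum_le_sum_of_subset_of_nonneg (s := ({x, y} : Finset X)) (t := univ)
        (f := fun z => D i₀ z * D i₀ z) (subset_univ _) fun z _ _ => mul_self_nonneg _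
      rw [sum_pair hy.symm, h2] at h6
      have := h1' y (mem_univ _)
      omega
    rw [sum_congr rfl fun x _ => h5 x, sum_const, nsmul_eq_mul, mul_one, h3] at h2
    omega
  have hr : 2 ≤ Fintype.card I := by omega
  obtain ⟨δ, ψ, hδ, hψ, S, hS⟩ := exists_common_vertex D w hw hr hD hw0
  set N := ∑ x, S x * S x with hN
  have hδ2 : δ * δ = 1 := by rcases hδ with rfl | rfl <;> rfl
  have hpair : ∀ i j, N + δ * S (ψ i) + δ * S (ψ j) + (if i = j then 1 else 0) =
      (n : ℤ) + if i = j then 1 else 0 := by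
    intro i j
    rw [← hD i j]
    have e : ∀ x, D i x * D j x = S x * S x + δ * (unitVec (ψ i) x * S x) +
        δ * (unitVec (ψ j) x * S x) + δ * δ * (unitVec (ψ i) x * unitVec (ψ j) x) := fun x => by
      rw [hS i x, hS j x]; ring
    simp only [e, sum_add_distrib, ← mul_sum, sum_unitVec_mul, sum_unitVec, hψ.eq_iff, hδ2,
      one_mul]
    simp [unitVec, hψ.eq_iff, eq_comm, hN]
  set s := univ.filter fun x => x ∉ Set.range ψ with hs
  have hscard : s.card = l := by
    have : s = univ \ univ.image ψ := by ext x; simp [hs]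
    rw [this, card_sdiff_of_subset (subset_univ _), card_univ, hX,
      card_image_of_injective _ hψ, card_univ]
    omega
  have hs0 : ∀ x ∈ s, S x ≠ 0 := fun x hx h0 => by
    obtain ⟨i, hi⟩ := hne x
    rw [hS i x, h0, unitVec, if_neg fun h => (mem_filter.1 hx).2 ⟨i, h.symm⟩] at hi
    exact hi (by ring)
  have hsplit : N = ∑ x ∈ s, S x * S x + ∑ i, S (ψ i) * S (ψ i) := by
    rw [hN, ← sum_filter_add_sum_filter_not univ (fun x => x ∉ Set.range ψ), ← hs]
    congr 1
    rw [show (univ.filter fun x => ¬x ∉ Set.range ψ) = univ.image ψ by ext x; simp,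
      sum_image fun a _ b _ h => hψ h]
  obtain ⟨k, hk⟩ : ∃ k : ℤ, ∀ i, δ * S (ψ i) = k := ⟨δ * S (ψ i₀), fun i => by
    have h1 := hpair i i
    have h2 := hpair i₀ i₀
    simp only [if_true] at h1 h2
    omega⟩
  have hsq : ∀ i, S (ψ i) * S (ψ i) = k * k := fun i => by
    rw [← hk i]; linear_combination -(S (ψ i) * S (ψ i)) * hδ2
  have hnk : N + 2 * k = (n : ℤ) := by
    have h1 := hpair i₀ i₀
    simp only [if_true, hk] at h1
    omega
  rw [sum_congr rfl (fun i _ => hsq i), sum_const, card_univ, nsmul_eq_mul] at hsplit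
  have hge1 : ∀ x ∈ s, 1 ≤ S x * S x := fun x hx => by
    have := mul_self_pos.2 (hs0 x hx); omega
  have hge : (l : ℤ) ≤ ∑ x ∈ s, S x * S x := by
    rw [← hscard]
    simpa using card_nsmul_le_sum s (fun x => S x * S x) 1 hge1
  set r : ℤ := (Fintype.card I : ℤ) with hr_def
  have hr' : (2 : ℤ) ≤ r := by omega
  have hv : 0 ≤ r * (k * k) + 2 * k := by
    have h1 : 0 ≤ (r - 2) * (k * k) := mul_nonneg (by omega) (mul_self_nonneg k)
    have h2 : 0 ≤ k * k + k := by
      rcases le_or_gt 0 k with h | h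
      · nlinarith
      · nlinarith
    nlinarith
  refine ⟨by omega, fun hn3 => ?_⟩
  have h5 : ∀ x ∈ s, S x * S x = 1 := fun x hx => by
    refine sq_eq_one_of_le_three (hs0 x hx) ?_
    have h6 := single_le_sum (fun y _ => mul_self_nonneg (S y)) hx
    omega
  rw [sum_congr rfl h5, sum_const, nsmul_eq_mul, mul_one, hscard] at hsplit
  have hv2 : r * (k * k) + 2 * k ≤ 2 := by
    push_cast at hsplit ⊢
    omega
  have hkk : k = 0 ∨ k = -1 := by
    have h1 : 0 ≤ (r - 2) * (k * k) := mul_nonneg (by omega) (mul_self_nonneg k)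
    have h2 : k * k + k ≤ 1 := by nlinarith
    have h3 : k ≤ 0 := by nlinarith
    have h4 : -1 ≤ k := by nlinarith
    omega
  rcases hkk with rfl | rfl
  · left
    push_cast at hsplit
    omega
  · push_cast at hsplit
    omega

end CfsgLib.FreeInertial
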