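import Cfsg.Agent.BlocksB.FreeInertial.Relations
import Cfsg.Agent.BlocksB.FreeInertial.Vectors
import Cfsg.Agent.BlocksB.Cyclic.Main
import Cfsg.Agent.Frobenius.Fpf

/-!
# The counts of a block with abelian defect group and free abelian inertial quotient
-/

set_option autoImplicit false
set_option linter.style.haveILetI false
set_option linter.unusedSectionVars false

namespace CfsgLib.FreeInertial

open Cfsg Finset CfsgLib.Block CfsgLib.Block.Chr CfsgLib.BrauerPairs CfsgLib.BlockStar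
  CfsgLib.BlockB CfsgLib.SL2C
open scoped Classical

universe u

variable {M : Ideal AlgInt} [M.IsPrime] {p : ℕ} [Fact p.Prime] [CharP (Residue M) p]
  {G : Type u} [Group G] [Fintype G]

local notation "C[" Q "]" => Subgroup.centralizer (SetLike.coe Q)
local notation "N[" Q "]" => Subgroup.normalizer (SetLike.coe Q)

theorem blockRank_pos {B : Set (IrrCharacter G)} (hM : IsPModular p M) (hB : IsPBlock M B) :
    0 < blockRank p B := by
  obtain ⟨χ, hχ, -⟩ := exists_height_zero hM hB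
  refine Nat.pos_of_ne_zero fun h => irr_one_ne_zero χ ?_
  rw [blockRank] at h
  haveI : Module.Finite ℂ (Submodule.span ℂ
      ((fun χ : IrrCharacter G => pRegularPart p (χ : G → ℂ)) '' B)) := inferInstance
  have h1 : Submodule.span ℂ ((fun χ : IrrCharacter G => pRegularPart p (χ : G → ℂ)) '' B) = ⊥ :=
    Submodule.finrank_eq_zero.1 h
  have h2 := Submodule.span_eq_bot.1 h1 _ ⟨χ, hχ, rfl⟩
  have h3 := congrFun h2 1
  simp only [BlockB.pRegularPart_eq] at h3
  rwa [regPart_of_not_dvd (by rw [orderOf_one]; exact (Fact.out : p.Prime).not_dvd_one)] at h3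

variable {B : Set (IrrCharacter G)} {P : Subgroup G} {c : Set (IrrCharacter C[P])}

theorem exists_freeData (hM : IsPModular p M) (hB : IsPBlock M B)
    (hPD : IsDefectGroup p M B P) (hP1 : P ≠ ⊥) (hab : ∀ x ∈ P, ∀ y ∈ P, x * y = y * x)
    (hc : IsInducedBlock M C[P] c B)
    (hEab : ∀ g ∈ stab P (idemIn M C[P] c), ∀ h ∈ stab P (idemIn M C[P] c),
      g * h * g⁻¹ * h⁻¹ ∈ (C[P] : Subgroup G))
    (hfree : ∀ g ∈ stab P (idemIn M C[P] c), ∀ x ∈ P, x ≠ 1 → g * x * g⁻¹ = x →
      g ∈ (C[P] : Subgroup G)) :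
    ∃ t, FreeData (M := M) p B P c t
      ((C[P] : Subgroup G).relIndex (stab P (idemIn M C[P] c))) := by
  obtain ⟨hP, hmax⟩ := Inertial.maxPair_of_induced hM hB hPD hab hc
  set T := stab P (idemIn M C[P] c) with hT
  haveI hN : ((C[P] : Subgroup G).subgroupOf T).Normal :=
    (Subgroup.normal_subgroupOf_iff_le_normalizer (centralizer_le_stab hP)).mpr
      stab_le_normalizer_centralizer
  set K := (C[P] : Subgroup G).subgroupOf T with hK
  let ψ : T →* MulAut P :=
    MonoidHom.mk' (fun g =>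
      { toFun := fun x => ⟨(g : G) * x * (g : G)⁻¹, (Subgroup.mem_normalizer_iff.1 g.2.1 x).1 x.2⟩
        invFun := fun x => ⟨(g : G)⁻¹ * x * (g : G), by
          have := (Subgroup.mem_normalizer_iff.1 (inv_mem g.2.1) x).1 x.2
          rwa [inv_inv] at this⟩
        left_inv := fun x => Subtype.ext (by simp [mul_assoc])
        right_inv := fun x => Subtype.ext (by simp [mul_assoc])
        map_mul' := fun x y => Subtype.ext (by simp [mul_assoc]) })
      fun g h => MulEquiv.ext fun x => Subtype.ext (by simp [mul_assoc])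
  have hψ : K ≤ ψ.ker := fun g hg => MulEquiv.ext fun x => Subtype.ext (by
    show (g : G) * x * (g : G)⁻¹ = x
    exact mul_inv_eq_iff_eq_mul.2
      (Subgroup.mem_centralizer_iff.1 (Subgroup.mem_subgroupOf.1 hg) x x.2).symm)
  let φ : T ⧸ K →* MulAut P := QuotientGroup.lift K ψ hψ
  have hfpf : CfsgLib.Frobenius.IsFpf φ := by
    intro q hq x hx
    obtain ⟨g, rfl⟩ := QuotientGroup.mk_surjective q
    by_contra hx1
    refine hq ((QuotientGroup.eq_one_iff g).2 (Subgroup.mem_subgroupOf.2 ?_))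
    exact hfree g g.2 x x.2 (fun h => hx1 (Subtype.ext h)) (congrArg Subtype.val hx)
  have hcomm : ∀ a b : T ⧸ K, a * b = b * a := by
    intro a b
    obtain ⟨g, rfl⟩ := QuotientGroup.mk_surjective a
    obtain ⟨h, rfl⟩ := QuotientGroup.mk_surjective b
    rw [← QuotientGroup.mk_mul, ← QuotientGroup.mk_mul, QuotientGroup.eq, Subgroup.mem_subgroupOf]
    push_cast
    rw [show ((g : G) * h)⁻¹ * ((h : G) * g) = (h : G)⁻¹ * (g : G)⁻¹ * ((h : G)⁻¹)⁻¹ * ((g : G)⁻¹)⁻¹
      by group]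
    exact hEab _ (inv_mem h.2) _ (inv_mem g.2)
  haveI : Nontrivial P := (Subgroup.nontrivial_iff_ne_bot P).2 hP1
  obtain ⟨⟨q, hq⟩⟩ := hfpf.isCyclic_of_comm hcomm
  obtain ⟨s, rfl⟩ := QuotientGroup.mk_surjective q
  have hord : orderOf (s : T ⧸ K) = (C[P] : Subgroup G).relIndex T :=
    orderOf_eq_card_of_forall_mem_zpowers hq
  refine ⟨s, hM, hB, hc.1, hmax, hab, hP1, Nat.pos_of_ne_zero Subgroup.index_ne_zero_of_finite,
    Inertial.not_dvd_inertial hM hB hP hmax hab, rfl, s.2, ?_, fun l u hu hu1 h => ?_,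
    fun g hg => ?_⟩
  · rw [← SubgroupClass.coe_pow, ← Subgroup.mem_subgroupOf, ← QuotientGroup.eq_one_iff,
      QuotientGroup.mk_pow, ← hord]
    exact pow_orderOf_eq_one _
  · have h2 := hfree _ (pow_mem s.2 l) u hu hu1 h
    rw [← SubgroupClass.coe_pow, ← Subgroup.mem_subgroupOf, ← QuotientGroup.eq_one_iff,
      QuotientGroup.mk_pow, ← orderOf_dvd_iff_pow_eq_one, hord] at h2
    exact h2
  · obtain ⟨l, hl⟩ := (isOfFinOrder_of_finite (s : T ⧸ K)).mem_powers_iff_mem_zpowers.2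
      (hq ((⟨g, hg⟩ : T) : T ⧸ K))
    have hl' : (((s ^ l : T)) : T ⧸ K) = ((⟨g, hg⟩ : T) : T ⧸ K) := hl
    refine ⟨l, _, Subgroup.mem_subgroupOf.1 (QuotientGroup.eq.1 hl'), ?_⟩
    simp

variable {t : G} {n : ℕ}

theorem FreeData.counts (S : FreeData (M := M) p B P c t n) :
    ∃ r : ℕ, Nat.card B = blockRank p B + r ∧ Nat.card P = n * r + 1 ∧ blockRank p B ≤ n ∧
      (n ≤ 3 → blockRank p B = n ∨ (n = 2 ∧ r = 3) ∨ (n = 3 ∧ (r = 3 ∨ r = 4))) := by
  haveI : Fintype P := Fintype.ofFinite _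
  letI := irrFintype (G := G)
  haveI : Fintype B := Fintype.ofFinite B
  obtain ⟨D, V⟩ := S.exists_freeVals
  obtain ⟨d, hd, hdeg, hne⟩ := FreeVals.exists_dvec S V
  set T := univ.filter fun μ : P →* ℂˣ => μ ≠ 1 with hT
  have hmem : ∀ {μ : P →* ℂˣ}, μ ∈ T ↔ μ ≠ 1 := fun {μ} => by simp [hT]
  have hcount : ∀ {μ : P →* ℂˣ}, μ ≠ 1 → ∀ ν : P →* ℂˣ,
      ((range n).filter fun l => ν = μ.comp (S.actHom l)).card =
        if ν ∈ (range n).image (fun l => μ.comp (S.actHom l)) then 1 else 0 := by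
    intro μ hμ ν
    split_ifs with h
    · obtain ⟨l, hl, rfl⟩ := mem_image.1 h
      rw [card_eq_one]
      refine ⟨l, ext fun i => ?_⟩
      rw [mem_filter, mem_singleton]
      exact ⟨fun hi => (S.dual_injOn hμ hl hi.1 hi.2).symm, by rintro rfl; exact ⟨hl, rfl⟩⟩
    · rw [card_eq_zero, filter_eq_empty_iff]
      exact fun l hl he => h (mem_image.2 ⟨l, hl, he.symm⟩)
  have hself : ∀ {μ : P →* ℂˣ}, μ ≠ 1 → μ ∈ (range n).image (fun l => μ.comp (S.actHom l)) :=
    fun {μ} _ => mem_image.2 ⟨0, mem_range.2 S.n_pos, MonoidHom.ext fun w => congrArg μ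
      (by rw [FreeData.actHom_apply, S.act_zero])⟩
  have hne1 : ∀ {μ : P →* ℂˣ}, μ ≠ 1 →
      ∀ {ν}, ν ∈ (range n).image (fun l => μ.comp (S.actHom l)) → ν ≠ 1 := by
    intro μ hμ ν hν h
    obtain ⟨l, -, rfl⟩ := mem_image.1 hν
    refine hμ (MonoidHom.ext fun w => ?_)
    obtain ⟨y, rfl⟩ := S.act_surjective l w
    exact DFunLike.congr_fun h y
  have hfib : ∀ {μ : P →* ℂˣ}, μ ≠ 1 → T.filter (fun ν => d ν = d μ) =
      (range n).image (fun l => μ.comp (S.actHom l)) := by
    intro μ hμ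
    ext ν
    rw [mem_filter, hmem]
    constructor
    · rintro ⟨hν, he⟩
      by_contra hn'
      have h1 := hd μ ν hμ hν
      rw [hcount hμ, if_neg hn', he, hd μ μ hμ hμ, hcount hμ, if_pos (hself hμ)] at h1
      omega
    · intro h
      have hν := hne1 hμ h
      refine ⟨hν, funext fun x => ?_⟩
      have h1 := hd μ ν hμ hν
      have h2 := hd μ μ hμ hμ
      have h3 := hd ν ν hν hν
      rw [hcount hμ, if_pos h] at h1
      rw [hcount hμ, if_pos (hself hμ)] at h2
      rw [hcount hν, if_pos (hself hν)] at h3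
      have h4 : ∑ x : B, (d ν x - d μ x) * (d ν x - d μ x) = 0 := by
        simp only [sub_mul, mul_sub, sum_sub_distrib, mul_comm (d ν _) (d μ _)]
        omega
      exact sub_eq_zero.1 (mul_self_eq_zero.1
        ((sum_eq_zero_iff_of_nonneg fun _ _ => mul_self_nonneg _).1 h4 x (mem_univ x)))
  set I := T.image d with hI
  have hI' : ∀ i : I, ∃ μ : P →* ℂˣ, μ ≠ 1 ∧ d μ = i.1 := fun i => by
    obtain ⟨μ, hμ, h⟩ := mem_image.1 i.2
    exact ⟨μ, hmem.1 hμ, h⟩
  choose ρ hρ hρd using hI'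
  have hTcard : T.card = Nat.card P - 1 := by
    rw [hT, filter_ne' univ (1 : P →* ℂˣ), card_erase_of_mem (mem_univ _), card_univ,
      card_dual S.comm, Nat.card_eq_fintype_card]
  have hIT : T.card = n * I.card := by
    rw [card_eq_sum_card_image d T, ← hI, sum_const_nat fun i hi => ?_, mul_comm]
    obtain ⟨μ, hμ, rfl⟩ := mem_image.1 hi
    rw [hfib (hmem.1 hμ), card_image_of_injOn (S.dual_injOn (hmem.1 hμ)), card_range]
  have hP1' : 1 < Nat.card P := Finite.one_lt_card_iff_nontrivial.2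
    ((Subgroup.nontrivial_iff_ne_bot P).2 S.hP1)
  have hcP : Nat.card P = n * I.card + 1 := by omega
  have hk := FreeVals.card_relation S V
  have hX : Nat.card B = blockRank p B + I.card := by
    have : n * Nat.card B = n * (blockRank p B + I.card) := by
      rw [mul_add]
      omega
    exact Nat.eq_of_mul_eq_mul_left S.n_pos this
  have hcI : Fintype.card I = I.card := Fintype.card_coe I
  have hIpos : 0 < Fintype.card I := by
    rw [hcI]
    refine Nat.pos_of_ne_zero fun h => ?_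
    rw [h, mul_zero] at hcP
    omega
  obtain ⟨hle, hsmall⟩ := count_le (fun i : I => i.1)
    (fun x : B => (charDegree ((x : IrrCharacter G) : G → ℂ) : ℤ))
    (fun x => by exact_mod_cast (irr_one x.1).2) (n := n) (blockRank_pos S.hM S.hB)
    (by rw [← Nat.card_eq_fintype_card, hX, hcI]) hIpos
    (fun i j => by
      rw [← hρd i, ← hρd j, hd _ _ (hρ i) (hρ j), hcount (hρ i), ← hfib (hρ i)]
      by_cases hij : i = j
      · subst hij
        rw [if_pos (show ρ i ∈ T.filter (fun ν => d ν = d (ρ i)) from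
          mem_filter.2 ⟨hmem.2 (hρ i), rfl⟩), if_pos rfl]; rfl
      · rw [if_neg fun h => hij (Subtype.ext ?_), if_neg hij]; rfl
        rw [← hρd i, ← hρd j]
        exact (mem_filter.1 h).2.symm)
    (fun i => by rw [← hρd i]; exact hdeg _)
    (fun x => by
      obtain ⟨μ, hμ, h⟩ := hne x
      exact ⟨⟨d μ, mem_image_of_mem d (hmem.2 hμ)⟩, h⟩)
  exact ⟨I.card, hX, hcP, hle, by rwa [hcI] at hsmall⟩

/-- **The counts.** -/
theorem counts_main (hM : IsPModular p M) (hB : IsPBlock M B)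
    (hPD : IsDefectGroup p M B P) (hP1 : P ≠ ⊥) (hab : ∀ x ∈ P, ∀ y ∈ P, x * y = y * x)
    (hc : IsInducedBlock M C[P] c B)
    (hEab : ∀ g ∈ stab P (idemIn M C[P] c), ∀ h ∈ stab P (idemIn M C[P] c),
      g * h * g⁻¹ * h⁻¹ ∈ (C[P] : Subgroup G))
    (hfree : ∀ g ∈ stab P (idemIn M C[P] c), ∀ x ∈ P, x ≠ 1 → g * x * g⁻¹ = x →
      g ∈ (C[P] : Subgroup G))
    {e : ℕ} (he : (C[P] : Subgroup G).relIndex (stab P (idemIn M C[P] c)) = e) :
    Nat.card B ≤ e + (Nat.card P - 1) / e ∧ blockRank p B ≤ e ∧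
      (Nat.card B = e + (Nat.card P - 1) / e ↔ blockRank p B = e) ∧
      (e ≤ 3 → Nat.card B = e + (Nat.card P - 1) / e ∧ blockRank p B = e) := by
  obtain ⟨t, S⟩ := exists_freeData hM hB hPD hP1 hab hc hEab hfree
  rw [he] at S
  obtain ⟨r, hk, hP, hle, hsmall⟩ := S.counts
  have hdiv : (Nat.card P - 1) / e = r := by
    rw [hP, Nat.add_sub_cancel, Nat.mul_div_cancel_left _ S.n_pos]
  rw [hdiv]
  refine ⟨by omega, hle, by omega, fun h3 => ?_⟩
  suffices h : blockRank p B = e by exact ⟨by omega, h⟩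
  rcases hsmall h3 with h | h
  · exact h
  have hprime : (Nat.card P).Prime := by
    obtain ⟨k, hk'⟩ : ∃ k, Nat.card P = p ^ k := S.pair.1.exists_card_eq
    rcases h with ⟨rfl, rfl⟩ | ⟨rfl, rfl | rfl⟩
    · rw [hP]; norm_num
    · exfalso
      have hp : p.Prime := Fact.out
      have hk0 : k ≠ 0 := fun h0 => by rw [h0, pow_zero] at hk'; omega
      have h10 : p ^ k = 10 := by rw [← hk', hP]
      have h2 : 2 ∣ p := Nat.prime_two.dvd_of_dvd_pow (h10 ▸ by norm_num : 2 ∣ p ^ k)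
      have h5 : 5 ∣ p := (by norm_num : Nat.Prime 5).dvd_of_dvd_pow (h10 ▸ by norm_num : 5 ∣ p ^ k)
      have e2 := (Nat.prime_dvd_prime_iff_eq Nat.prime_two hp).1 h2
      rw [← e2] at h5
      omega
    · rw [hP]; norm_num
  haveI : Fact (Nat.card P).Prime := ⟨hprime⟩
  have hcyc : IsCyclic P := isCyclic_of_prime_card rfl
  have := Cyclic.inertial_le_rank hM hB hPD hcyc hP1 hc
  omega

end CfsgLib.FreeInertial
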