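import Cfsg.Agent.Char.Generalized
import Cfsg.Agent.Char.AlgInt
import Cfsg.Agent.Blocks.CharExtra
import Cfsg.Agent.SL2C.AbChar
import Mathlib.FieldTheory.Finite.Basic
import Mathlib.GroupTheory.PGroup
import Mathlib.Algebra.Polynomial.Eval.Degree

/-!
# Signs making a function on an abelian group a generalized character

Functions on an abelian group of prime power order that agree off a subgroup with generalized
characters. The possible values at a subgroup of a system of absolute values are determined up to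
a sign modulo its index, which gives signs for the whole system by descending induction.
-/

set_option autoImplicit false
set_option linter.style.haveILetI false
set_option linter.unusedSectionVars false

namespace CfsgLib.FreeInertial

open Cfsg Finset CfsgLib.Char
open scoped ComplexConjugate
open scoped Classical

universe u

variable {A : Type u} [Group A] [Fintype A]

theorem isClassFunction_of_comm (hA : ∀ a b : A, a * b = b * a) (f : A → ℂ) :
    IsClassFunction A f := fun g h => by rw [hA h g, mul_inv_cancel_right]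

theorem isGen_of_inner (hA : ∀ a b : A, a * b = b * a) {f : A → ℂ}
    (h : ∀ ξ, IsIrrCharacter A ξ → ∃ n : ℤ, classInner f ξ = n) :
    IsGeneralizedCharacter A f :=
  isGeneralized_of_classInner_int (isClassFunction_of_comm hA f) h

theorem isGen_hom (w : A →* ℂˣ) : IsGeneralizedCharacter A (fun a => (w a : ℂ)) :=
  IsIrrCharacter.isGeneralized (isIrrCharacter_ofHom w)

theorem isGen_const (n : ℤ) : IsGeneralizedCharacter A (fun _ => (n : ℂ)) := by
  have h := IsGeneralized.intCast_smul (isGen_hom (1 : A →* ℂˣ)) n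
  have e : ((n : ℂ) • fun a => ((1 : A →* ℂˣ) a : ℂ)) = fun _ => (n : ℂ) := by
    funext a; simp
  rwa [e] at h

theorem isGen_smul {f : A → ℂ} (hf : IsGeneralizedCharacter A f) (n : ℤ) :
    IsGeneralizedCharacter A (fun a => (n : ℂ) * f a) := IsGeneralized.intCast_smul hf n

theorem isGen_pow {f : A → ℂ} (hf : IsGeneralizedCharacter A f) (k : ℕ) :
    IsGeneralizedCharacter A (fun a => f a ^ k) := by
  induction k with
  | zero =>
    have h := isGen_const (A := A) 1
    simpa using h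
  | succ k ih =>
    simp only [pow_succ]
    exact IsGeneralized.mul ih hf

theorem isGen_eval (R : Polynomial ℤ) {f : A → ℂ} (hf : IsGeneralizedCharacter A f) :
    IsGeneralizedCharacter A (fun a => Polynomial.aeval (f a) R) := by
  induction R using Polynomial.induction_on' with
  | add P Q hP hQ =>
    simp only [map_add]
    exact IsGeneralized.add hP hQ
  | monomial n r =>
    simp only [Polynomial.aeval_monomial]
    exact isGen_smul (isGen_pow hf n) r

/-- A linear character of a subgroup times the index, extended by zero. -/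
theorem isGen_ind (hA : ∀ a b : A, a * b = b * a) (Q : Subgroup A) (w : Q →* ℂˣ) :
    IsGeneralizedCharacter A
      (fun v => if h : v ∈ Q then (Q.index : ℂ) * (w ⟨v, h⟩ : ℂ) else 0) := by
  refine isGen_of_inner hA fun ξ hξ => ?_
  haveI := Fintype.ofFinite Q
  obtain ⟨n, hn⟩ := IsGeneralized.exists_classInner_eq_int (isGen_hom w)
    (IsGeneralized.comp (IsIrrCharacter.isGeneralized hξ) Q.subtype)
  refine ⟨n, ?_⟩
  rw [← hn, classInner_def, classInner_def]
  have hq : (Nat.card Q : ℂ) ≠ 0 := Nat.cast_ne_zero.2 Nat.card_pos.ne'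
  have hi : (Q.index : ℂ) ≠ 0 := Nat.cast_ne_zero.2 Subgroup.index_ne_zero_of_finite
  rw [← Subgroup.card_mul_index Q, Nat.cast_mul]
  rw [show ∑ v : A, (if h : v ∈ Q then (Q.index : ℂ) * (w ⟨v, h⟩ : ℂ) else 0) * conj (ξ v) =
      ∑ q : Q, (Q.index : ℂ) * ((w q : ℂ) * conj (ξ (q : A))) from ?_, ← mul_sum]
  · field_simp
    rfl
  · refine (Fintype.sum_of_injective _ Subtype.val_injective _ _ (fun v hv => ?_) fun q => ?_).symm
    · rw [dif_neg fun h => hv ⟨⟨v, h⟩, rfl⟩, zero_mul]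
    · rw [dif_pos q.2]; ring

theorem isGen_ind_one (hA : ∀ a b : A, a * b = b * a) (Q : Subgroup A) :
    IsGeneralizedCharacter A (fun v => if v ∈ Q then (Q.index : ℂ) else 0) := by
  have h := isGen_ind hA Q 1
  simpa using h

/-- Off `Q`, congruent to a generalized character modulo the order of the group and proportional
to one. -/
structure OffGen (Q : Subgroup A) (y : A → ℂ) : Prop where
  integral : ∀ v, v ∉ Q → IsIntegral ℤ (y v)
  rat : ∃ m : ℤ, m ≠ 0 ∧ ∃ E, IsGeneralizedCharacter A E ∧ ∀ v, v ∉ Q → E v = (m : ℂ) * y v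
  approx : ∃ E, IsGeneralizedCharacter A E ∧
    ∀ v, v ∉ Q → ∃ z : ℂ, IsIntegral ℤ z ∧ E v - y v = (Nat.card A : ℂ) * z

theorem OffGen.of_gen (Q : Subgroup A) {y : A → ℂ} (hy : IsGeneralizedCharacter A y) :
    OffGen Q y :=
  ⟨fun v _ => IsGeneralized.isIntegral hy v, ⟨1, one_ne_zero, y, hy, fun v _ => by simp⟩,
    y, hy, fun v _ => ⟨0, isIntegral_zero, by simp⟩⟩

theorem OffGen.mul {Q : Subgroup A} {x y : A → ℂ} (hx : OffGen Q x) (hy : OffGen Q y) :
    OffGen Q (fun v => x v * y v) := by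
  obtain ⟨m, hm, E, hE, hEv⟩ := hx.rat
  obtain ⟨m', hm', E', hE', hEv'⟩ := hy.rat
  obtain ⟨F, hF, hFv⟩ := hx.approx
  obtain ⟨F', hF', hFv'⟩ := hy.approx
  refine ⟨fun v hv => (hx.integral v hv).mul (hy.integral v hv),
    ⟨m * m', mul_ne_zero hm hm', fun v => E v * E' v, IsGeneralized.mul hE hE', fun v hv => ?_⟩,
    fun v => F v * F' v, IsGeneralized.mul hF hF', fun v hv => ?_⟩
  · simp only [hEv v hv, hEv' v hv]; push_cast; ring
  · obtain ⟨z, hz, hzv⟩ := hFv v hv
    obtain ⟨z', hz', hzv'⟩ := hFv' v hv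
    refine ⟨z * F' v + x v * z', (hz.mul (IsGeneralized.isIntegral hF' v)).add
      ((hx.integral v hv).mul hz'), ?_⟩
    linear_combination F' v * hzv + x v * hzv'

theorem OffGen.congr {Q : Subgroup A} {x y : A → ℂ} (hx : OffGen Q x)
    (h : ∀ v, v ∉ Q → x v = y v) : OffGen Q y := by
  obtain ⟨m, hm, E, hE, hEv⟩ := hx.rat
  obtain ⟨F, hF, hFv⟩ := hx.approx
  exact ⟨fun v hv => h v hv ▸ hx.integral v hv, ⟨m, hm, E, hE, fun v hv => h v hv ▸ hEv v hv⟩,
    F, hF, fun v hv => h v hv ▸ hFv v hv⟩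

theorem pow_totient_dvd {a : ℤ} {N : ℕ} (h : IsCoprime a (N : ℤ)) :
    (N : ℤ) ∣ a ^ N.totient - 1 := by
  rw [← ZMod.intCast_zmod_eq_zero_iff_dvd]
  push_cast
  rw [sub_eq_zero]
  have h' : IsUnit (a : ZMod N) := by
    obtain ⟨s, t, hst⟩ := h
    refine IsUnit.of_mul_eq_one (s : ZMod N) ?_
    have := congrArg (Int.cast : ℤ → ZMod N) hst
    push_cast at this
    simpa [mul_comm] using this
  obtain ⟨u, hu⟩ := h'
  rw [← hu, ← Units.val_pow_eq_pow_val, ZMod.pow_totient, Units.val_one]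

/-- **Division by an integral generalized character with values prime to the order.** -/
theorem div_int {Q : Subgroup A} {G f y : A → ℂ} (hG : IsGeneralizedCharacter A G)
    (hf : IsGeneralizedCharacter A f)
    (hfi : ∀ v, v ∉ Q → ∃ a : ℤ, a ≠ 0 ∧ IsCoprime a (Nat.card A : ℤ) ∧ f v = a)
    (hy : ∀ v, v ∉ Q → IsIntegral ℤ (y v)) (h : ∀ v, v ∉ Q → y v * f v = G v) :
    OffGen Q y ∧ ∀ v, v ∉ Q → ∃ z : ℂ, IsIntegral ℤ z ∧
      G v * f v ^ ((Nat.card A).totient - 1) - y v = (Nat.card A : ℂ) * z := by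
  have hN : 0 < (Nat.card A).totient := Nat.totient_pos.2 Nat.card_pos
  have hap : ∀ v, v ∉ Q → ∃ z : ℂ, IsIntegral ℤ z ∧
      G v * f v ^ ((Nat.card A).totient - 1) - y v = (Nat.card A : ℂ) * z := by
    intro v hv
    obtain ⟨a, ha, hcop, hfa⟩ := hfi v hv
    obtain ⟨k, hk⟩ := pow_totient_dvd hcop
    refine ⟨y v * k, (hy v hv).mul isIntegral_algebraMap, ?_⟩
    rw [← h v hv, mul_assoc, ← pow_succ', Nat.sub_add_cancel hN, hfa]
    have hk' : (a : ℂ) ^ (Nat.card A).totient - 1 = (Nat.card A : ℂ) * k := by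
      exact_mod_cast hk
    linear_combination y v * hk'
  refine ⟨⟨hy, ?_, fun v => G v * f v ^ ((Nat.card A).totient - 1),
    IsGeneralized.mul hG (isGen_pow hf _), hap⟩, hap⟩
  choose! a ha hcop hfa using hfi
  set S := (univ.filter fun v : A => v ∉ Q).image a
  set Φ : Polynomial ℤ := ∏ x ∈ S, (Polynomial.X - Polynomial.C x)
  set R : Polynomial ℤ := Φ.divX
  have hm : Φ.coeff 0 ≠ 0 := by
    rw [Polynomial.coeff_zero_eq_eval_zero, Polynomial.eval_prod, prod_ne_zero_iff]
    intro x hx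
    obtain ⟨v, hv, rfl⟩ := mem_image.1 hx
    simpa using ha v (mem_filter.1 hv).2
  refine ⟨-Φ.coeff 0, neg_ne_zero.2 hm, fun v => G v * Polynomial.aeval (f v) R,
    IsGeneralized.mul hG (isGen_eval R hf), fun v hv => ?_⟩
  have h0 : Polynomial.aeval (f v) Φ = 0 := by
    rw [map_prod]
    refine prod_eq_zero (mem_image_of_mem a (mem_filter.2 ⟨mem_univ v, hv⟩)) ?_
    simp [hfa v hv]
  rw [← Polynomial.X_mul_divX_add Φ, map_add, map_mul, Polynomial.aeval_X, Polynomial.aeval_C]
    at h0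
  show G v * Polynomial.aeval (f v) R = _
  rw [← h v hv]
  simp only [algebraMap_int_eq, eq_intCast] at h0
  push_cast
  linear_combination y v * h0

theorem exists_int_of_mul {x : ℂ} (hx : IsIntegral ℤ x) {m n : ℤ} (hm : m ≠ 0)
    (h : (m : ℂ) * x = n) : ∃ k : ℤ, x = k := by
  have hm' : (m : ℂ) ≠ 0 := Int.cast_ne_zero.2 hm
  obtain ⟨k, hk, -⟩ := exists_int_of_isIntegral_rat ((n : ℚ) / m) hx (by
    push_cast
    rw [eq_div_iff hm', mul_comm, h])
  exact ⟨k, hk⟩

/-- **Gluing with an approximation.** -/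
theorem exists_gen_ext (hA : ∀ a b : A, a * b = b * a) {Q : Subgroup A} {y : A → ℂ}
    (hy : OffGen Q y) {E : A → ℂ} (hE : IsGeneralizedCharacter A E)
    (hEy : ∀ v, v ∉ Q → ∃ z : ℂ, IsIntegral ℤ z ∧ E v - y v = (Nat.card A : ℂ) * z) :
    IsGeneralizedCharacter A (fun v => if v ∈ Q then E v else y v) := by
  refine isGen_of_inner hA fun ξ hξ => ?_
  set F : A → ℂ := fun v => if v ∈ Q then E v else y v
  choose! z hz hzv using hEy
  obtain ⟨n, hn⟩ := IsGeneralized.exists_classInner_eq_int hE (IsIrrCharacter.isGeneralized hξ)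
  have hint : IsIntegral ℤ (classInner F ξ) := by
    have : classInner F ξ = (n : ℂ) - ∑ v ∈ univ.filter (· ∉ Q), z v * conj (ξ v) := by
      rw [← hn, classInner_def, classInner_def, eq_sub_iff_add_eq,
        ← inv_mul_cancel_left₀ (Nat.cast_ne_zero.2 (Nat.card_pos (α := A)).ne' :
          (Nat.card A : ℂ) ≠ 0) (∑ v ∈ univ.filter (· ∉ Q), z v * conj (ξ v)), ← mul_add, mul_sum,
        sum_filter, ← sum_add_distrib]
      congr 1
      refine sum_congr rfl fun v _ => ?_
      simp only [F]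
      split_ifs with hv
      · simp
      · linear_combination -(conj (ξ v)) * hzv v hv
    rw [this]
    exact isIntegral_algebraMap.sub (IsIntegral.sum _ fun v hv => (hz v (mem_filter.1 hv).2).mul
      ((IsCharacter.isIntegral (IsIrrCharacter.isCharacter hξ) v).map
        ((starRingEnd ℂ).toIntAlgHom)))
  obtain ⟨m, hm, E', hE', hEv'⟩ := hy.rat
  set J : A → ℂ := fun v => if v ∈ Q then (Q.index : ℂ) else 0
  have hJ : IsGeneralizedCharacter A J := isGen_ind_one hA Q
  set H : A → ℂ := fun v => ((Q.index : ℤ) : ℂ) * E' v - E' v * J v + (m : ℂ) * (E v * J v)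
  have hH : IsGeneralizedCharacter A H := IsGeneralized.add
    (IsGeneralized.sub (isGen_smul hE' _) (IsGeneralized.mul hE' hJ))
    (isGen_smul (IsGeneralized.mul hE hJ) m)
  have hHF : ∀ v, H v = ((Q.index : ℤ) * m : ℤ) * F v := fun v => by
    simp only [H, F, J]
    split_ifs with hv
    · push_cast; ring
    · rw [hEv' v hv]; push_cast; ring
  obtain ⟨n', hn'⟩ := IsGeneralized.exists_classInner_eq_int hH (IsIrrCharacter.isGeneralized hξ)
  refine exists_int_of_mul hint (m := (Q.index : ℤ) * m) (n := n')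
    (mul_ne_zero (Int.natCast_ne_zero.2 Subgroup.index_ne_zero_of_finite) hm) ?_
  rw [← hn', classInner_def, classInner_def]
  simp only [hHF, mul_assoc, ← mul_sum]
  ring

/-- **The value at a subgroup is determined up to a sign modulo the index.** -/
theorem sign_step (hA : ∀ a b : A, a * b = b * a) (Q : Subgroup A) {C U : A → ℂ}
    (hC : IsGeneralizedCharacter A C) (hU : IsGeneralizedCharacter A U)
    (hv : ∀ v, v ∉ Q → ∃ a : ℤ, a ≠ 0 ∧ IsCoprime a (Nat.card A : ℤ) ∧ U v = a ∧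
      ∃ z : ℂ, IsIntegral ℤ z ∧ ‖z‖ = 1 ∧ C v = (a : ℂ) * z)
    (w : Q →* ℂˣ) (hw : ∀ q, ‖(w q : ℂ)‖ = 1) (a₀ : ℤ) (hCQ : ∀ q : Q, C q = (a₀ : ℂ) * (w q : ℂ))
    (c' : ℤ) (hcop : IsCoprime c' (Nat.card A : ℤ)) (hUQ : ∀ q : Q, U q = c') :
    (Q.index : ℤ) ∣ a₀ - c' ∨ (Q.index : ℤ) ∣ a₀ + c' := by
  set N := Nat.card A
  set n := Nat.card Q
  set I := Q.index
  set ε := N.totient
  have hε : 0 < ε := Nat.totient_pos.2 Nat.card_pos
  have hnI : n * I = N := Subgroup.card_mul_index Q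
  choose! a ha hcopv hUa z hz hzn hCz using hv
  obtain ⟨hy, hap⟩ := div_int (Q := Q) hC hU (fun v hv => ⟨a v, ha v hv, hcopv v hv, hUa v hv⟩)
    (y := z) hz (fun v hv => by rw [hUa v hv, hCz v hv, mul_comm])
  have hF := exists_gen_ext hA hy (IsGeneralized.mul hC (isGen_pow hU (ε - 1))) hap
  set c : ℤ := a₀ * c' ^ (ε - 1)
  have hI : (0 : ℤ) < I := by exact_mod_cast Nat.pos_of_ne_zero Subgroup.index_ne_zero_of_finite
  set c₀ := c % I
  have hc₀ : c = c₀ + I * (c / I) := (Int.emod_add_mul_ediv c I).symm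
  set F' : A → ℂ := fun v => if h : v ∈ Q then (c₀ : ℂ) * (w ⟨v, h⟩ : ℂ) else z v
  have hF' : IsGeneralizedCharacter A F' := by
    have h := IsGeneralized.sub hF (isGen_smul (isGen_ind hA Q w) (c / I))
    convert h using 1
    funext v
    simp only [F', Pi.sub_apply]
    by_cases hv : v ∈ Q
    · simp only [dif_pos hv, if_pos hv, Pi.mul_apply, hUQ ⟨v, hv⟩, hCQ ⟨v, hv⟩]
      have : (c₀ : ℂ) + (I : ℂ) * ((c / I : ℤ) : ℂ) = (a₀ : ℂ) * (c' : ℂ) ^ (ε - 1) := by
        exact_mod_cast hc₀.symm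
      linear_combination (w ⟨v, hv⟩ : ℂ) * this
    · simp [hv]
  -- the multiplicities
  choose x hx using fun ξ : irrFinset A => IsGeneralized.exists_classInner_eq_int hF'
    (IsIrrCharacter.isGeneralized (mem_irrFinset.1 ξ.2))
  have hexp : F' = ∑ ξ : irrFinset A, (x ξ : ℂ) • (ξ.1 : A → ℂ) := by
    conv_lhs => rw [eq_sum_irr (isClassFunction_of_comm hA F'), ← Finset.sum_coe_sort]
    exact sum_congr rfl fun ξ _ => by rw [hx ξ]
  have hone : ∑ ξ : irrFinset A, x ξ = c₀ := by
    have h := congrFun hexp 1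
    simp only [Finset.sum_apply, Pi.smul_apply, smul_eq_mul] at h
    rw [show F' 1 = (c₀ : ℂ) by
      simp only [F', dif_pos Q.one_mem]
      rw [show (⟨1, Q.one_mem⟩ : Q) = 1 from rfl, map_one, Units.val_one, mul_one],
      sum_congr rfl fun ξ _ => by
        rw [IsIrrCharacter.apply_one_eq_one (mem_irrFinset.1 ξ.2) hA, mul_one]] at h
    exact_mod_cast h.symm
  have hnorm : (N : ℤ) * ∑ ξ : irrFinset A, x ξ ^ 2 = ((N : ℤ) - n) + n * c₀ ^ 2 := by
    have h1 : classInner F' F' = ∑ ξ : irrFinset A, (x ξ : ℂ) ^ 2 := by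
      conv_lhs => arg 2; rw [hexp]
      rw [classInner_sum_right]
      refine sum_congr rfl fun ξ _ => ?_
      rw [classInner_smul_right, hx ξ, map_intCast, sq]
    have h2 : (N : ℂ) * classInner F' F' = ((N : ℂ) - n) + n * (c₀ : ℂ) ^ 2 := by
      rw [classInner_def, ← mul_assoc, mul_inv_cancel₀ (Nat.cast_ne_zero.2 Nat.card_pos.ne'),
        one_mul, ← sum_filter_add_sum_filter_not univ (· ∈ Q)]
      rw [sum_congr (g := fun _ => (c₀ : ℂ) ^ 2) rfl (fun v hv => by
          simp only [F', dif_pos (mem_filter.1 hv).2]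
          rw [map_mul, map_intCast, mul_mul_mul_comm, Complex.mul_conj', hw]
          simp [sq]),
        sum_congr (s₁ := univ.filter fun v => ¬ v ∈ Q) (g := fun _ => (1 : ℂ)) rfl (fun v hv => by
          simp only [F', dif_neg (mem_filter.1 hv).2]
          rw [Complex.mul_conj', hzn v (mem_filter.1 hv).2]
          simp),
        sum_const, sum_const, nsmul_eq_mul, nsmul_eq_mul, mul_one]
      have hcQ : (univ.filter fun v : A => v ∈ Q).card = n := by
        rw [← Fintype.card_subtype, ← Nat.card_eq_fintype_card]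
      have hcc : (univ.filter fun v : A => v ∈ Q).card + (univ.filter fun v : A => ¬ v ∈ Q).card =
          N := by
        rw [card_filter_add_card_filter_not, card_univ, ← Nat.card_eq_fintype_card]
      rw [hcQ] at hcc ⊢
      rw [← hcc]
      push_cast
      ring
    rw [h1] at h2
    exact_mod_cast h2
  set Sx := ∑ ξ : irrFinset A, x ξ ^ 2
  have hSx : c₀ ≤ Sx := by
    rw [← hone]
    exact sum_le_sum fun ξ _ => by nlinarith [sq_nonneg (x ξ - 1), sq_nonneg (x ξ)]
  have hn0 : (0 : ℤ) < n := by exact_mod_cast Nat.card_pos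
  have hkey : (I : ℤ) * Sx = (I : ℤ) - 1 + c₀ ^ 2 := by
    refine mul_left_cancel₀ hn0.ne' ?_
    have hNZ : (N : ℤ) = n * I := by exact_mod_cast hnI.symm
    rw [hNZ] at hnorm
    linear_combination hnorm
  have h0 : 0 ≤ c₀ := Int.emod_nonneg _ hI.ne'
  have h1 : c₀ < I := Int.emod_lt_of_pos _ hI
  have hcases : (I : ℤ) ∣ c₀ - 1 ∨ (I : ℤ) ∣ c₀ + 1 := by
    by_cases hz0 : c₀ = 0
    · left
      refine ⟨Sx - 1, ?_⟩
      rw [hz0] at hkey ⊢
      linear_combination -hkey
    · have h2 : 0 ≤ (c₀ - 1) * (c₀ - ((I : ℤ) - 1)) := by nlinarith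
      by_cases h3 : c₀ = 1
      · exact Or.inl ⟨0, by rw [h3]; ring⟩
      · have h4 : c₀ = (I : ℤ) - 1 := by
          have h5 : 0 < c₀ - 1 := by omega
          have h6 := nonneg_of_mul_nonneg_right h2 h5
          omega
        exact Or.inr ⟨1, by rw [h4]; ring⟩
  -- transfer
  obtain ⟨k, hk⟩ := pow_totient_dvd hcop
  have hIN : (I : ℤ) ∣ N := ⟨n, by rw [mul_comm]; exact_mod_cast hnI.symm⟩
  have hsplit : c' ^ ε = c' ^ (ε - 1) * c' := by rw [← pow_succ, Nat.sub_add_cancel hε]
  obtain ⟨l, hl⟩ := hIN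
  rcases hcases with ⟨d, hd⟩ | ⟨d, hd⟩
  · refine Or.inl ⟨c' * d + c' * (c / I) - a₀ * l * k, ?_⟩
    linear_combination c' * hd + c' * hc₀ + a₀ * hsplit - a₀ * hk - a₀ * k * hl
  · refine Or.inr ⟨c' * d + c' * (c / I) - a₀ * l * k, ?_⟩
    linear_combination c' * hd + c' * hc₀ + a₀ * hsplit - a₀ * hk - a₀ * k * hl

/-- **Marks by descending induction.** -/
theorem exists_marks {p : ℕ} [Fact p.Prime] (hA : ∀ a b : A, a * b = b * a) (hp : IsPGroup p A)
    (ok : Subgroup A → ℤ → Prop)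
    (hstep : ∀ Q : Subgroup A, Q ≠ ⊥ → ∀ F : A → ℤ,
      IsGeneralizedCharacter A (fun v => (F v : ℂ)) → (∀ q ∈ Q, F q = F 1) →
      (∀ v, v ∉ Q → ok (Q ⊔ Subgroup.zpowers v) (F v)) → (∀ v w, (p : ℤ) ∣ F v - F w) →
      ∃ x, ok Q x ∧ (Q.index : ℤ) ∣ x - F 1) :
    ∃ f : A → ℤ, IsGeneralizedCharacter A (fun v => (f v : ℂ)) ∧
      (∀ v, v ≠ 1 → ok (Subgroup.zpowers v) (f v)) ∧ ∀ v w, (p : ℤ) ∣ f v - f w := by
  haveI : Fintype (Subgroup A) := Fintype.ofFinite _
  let mk : Finset (Subgroup A) → (Subgroup A → ℤ) → Subgroup A → ℤ := fun S c X =>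
    ∑ R ∈ S, if X ≤ R then c R * (R.index : ℤ) else 0
  have hgen : ∀ S c Q, IsGeneralizedCharacter A
      (fun v => ((mk S c (Q ⊔ Subgroup.zpowers v) : ℤ) : ℂ)) := by
    intro S c Q
    have h := isGeneralized_sum S (f := fun R v =>
      if Q ≤ R then (c R : ℂ) * (if v ∈ R then (R.index : ℂ) else 0) else 0) fun R _ => by
        by_cases hQR : Q ≤ R
        · simp only [if_pos hQR]; exact isGen_smul (isGen_ind_one hA R) _
        · simp only [if_neg hQR]
          have h0 := isGen_const (A := A) 0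
          simpa using h0
    convert h using 1
    funext v
    rw [Finset.sum_apply]
    push_cast [mk]
    refine sum_congr rfl fun R _ => ?_
    simp only [sup_le_iff, Subgroup.zpowers_le]
    split_ifs <;> simp_all
  have hcongr : ∀ S c X Y, (p : ℤ) ∣ mk S c X - mk S c Y := by
    intro S c X Y
    rw [← sum_sub_distrib]
    refine dvd_sum fun R _ => ?_
    by_cases hR : R = ⊤
    · simp [hR]
    · obtain ⟨k, hk⟩ := hp.index R
      have hk0 : k ≠ 0 := fun h => hR (Subgroup.index_eq_one.1 (by rw [hk, h, pow_zero]))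
      have hd : (p : ℤ) ∣ c R * (R.index : ℤ) :=
        dvd_mul_of_dvd_right (by rw [hk]; exact_mod_cast dvd_pow_self p hk0) _
      split_ifs <;> first | exact dvd_sub hd hd | simpa using hd | simp
  have key : ∀ (m : ℕ) (S : Finset (Subgroup A)), S.card = m →
      (∀ X ∈ S, ∀ R, X ≤ R → R ∈ S) → (∀ X ∈ S, X ≠ ⊥) →
      ∃ c, ∀ X ∈ S, ok X (mk S c X) := by
    intro m
    induction m with
    | zero =>
      intro S hS _ _
      exact ⟨0, fun X hX => absurd hX (by simp [card_eq_zero.1 hS])⟩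
    | succ m ih =>
      intro S hS hup hbot
      obtain ⟨Q, hQmin⟩ := S.exists_minimal (card_pos.1 (by omega))
      have hQ : Q ∈ S := hQmin.prop
      have hnle : ∀ X ∈ S.erase Q, ¬ X ≤ Q := fun X hX hle =>
        (mem_erase.1 hX).1 (le_antisymm hle (hQmin.2 (mem_erase.1 hX).2 hle))
      have hup' : ∀ X ∈ S.erase Q, ∀ R, X ≤ R → R ∈ S.erase Q := fun X hX R hXR =>
        mem_erase.2 ⟨fun e => hnle X hX (e ▸ hXR), hup X (mem_erase.1 hX).2 R hXR⟩
      obtain ⟨c, hc⟩ := ih (S.erase Q) (by rw [card_erase_of_mem hQ, hS]; rfl) hup'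
        (fun X hX => hbot X (mem_erase.1 hX).2)
      set F : A → ℤ := fun v => mk (S.erase Q) c (Q ⊔ Subgroup.zpowers v) with hFdef
      have hFq : ∀ q ∈ Q, F q = mk (S.erase Q) c Q := fun q hq => by
        rw [hFdef]; simp only
        rw [sup_eq_left.2 (Subgroup.zpowers_le.2 hq)]
      obtain ⟨x, hx, t, ht⟩ := hstep Q (hbot Q hQ) F (hgen _ c Q)
        (fun q hq => (hFq q hq).trans (hFq 1 Q.one_mem).symm)
        (fun v hv => hc _ (mem_erase.2 ⟨fun e => hv (e ▸ Subgroup.mem_sup_right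
          (Subgroup.mem_zpowers v)), hup Q hQ _ le_sup_left⟩))
        (fun v w => hcongr _ c _ _)
      refine ⟨Function.update c Q t, fun X hX => ?_⟩
      have hrest : ∀ Y, mk (S.erase Q) (Function.update c Q t) Y = mk (S.erase Q) c Y := fun Y =>
        sum_congr rfl fun R hR => by rw [Function.update_of_ne (mem_erase.1 hR).1]
      have hsplit : ∀ Y, mk S (Function.update c Q t) Y =
          (if Y ≤ Q then t * (Q.index : ℤ) else 0) + mk (S.erase Q) c Y := fun Y => by
        rw [← hrest Y]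
        show ∑ R ∈ S, _ = _
        rw [← add_sum_erase _ _ hQ, Function.update_self]
      rw [hsplit]
      by_cases hXQ : X = Q
      · subst hXQ
        rw [if_pos le_rfl, ← hFq 1 X.one_mem, mul_comm t, ← ht, sub_add_cancel]
        exact hx
      · have hX' : X ∈ S.erase Q := mem_erase.2 ⟨hXQ, hX⟩
        rw [if_neg (hnle X hX'), zero_add]
        exact hc X hX'
  set S := univ.filter fun X : Subgroup A => X ≠ ⊥
  obtain ⟨c, hc⟩ := key S.card S rfl (fun X hX R hXR => mem_filter.2 ⟨mem_univ _, fun e =>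
    (mem_filter.1 hX).2 (eq_bot_iff.2 (e ▸ hXR))⟩) (fun X hX => (mem_filter.1 hX).2)
  refine ⟨fun v => mk S c (⊥ ⊔ Subgroup.zpowers v), hgen S c ⊥, fun v hv => ?_,
    fun v w => hcongr S c _ _⟩
  simp only [bot_sup_eq]
  exact hc _ (mem_filter.2 ⟨mem_univ _, Subgroup.zpowers_ne_bot.2 hv⟩)

end CfsgLib.FreeInertial
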