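import Cfsg.Agent.BlocksB.FreeInertial.Trace
import Cfsg.Agent.BlocksB.Cyclic.Corner

/-!
# Primitive idempotents of a block with one regular character

In a block whose characters all agree on the elements of order prime to `p`, a primitive
idempotent has trace one in every member.
-/

set_option autoImplicit false
set_option linter.style.haveILetI false
set_option linter.unusedSectionVars false

namespace CfsgLib.FreeInertial

open Cfsg Finset CfsgLib.Block CfsgLib.Block.Chr CfsgLib.BrauerPairs CfsgLib.BlockStar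
  CfsgLib.BlockB Module
open scoped Classical

universe u

variable {M : Ideal AlgInt} [M.IsPrime] {p : ℕ} [Fact p.Prime] [CharP (Residue M) p]
  {G : Type u} [Group G] [Fintype G]

local notation "𝕜" => Residue M

/-- A primitive idempotent cuts a simple module in at most one dimension. -/
theorem finrank_act_prim_le_one {j : MonoidAlgebra 𝕜 G} (hj : IsPrim j)
    (W : Type u) [AddCommGroup W] [Module 𝕜 W] [Module (MonoidAlgebra 𝕜 G) W]
    [IsScalarTower 𝕜 (MonoidAlgebra 𝕜 G) W] [FiniteDimensional 𝕜 W]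
    [IsSimpleModule (MonoidAlgebra 𝕜 G) W] :
    finrank 𝕜 (LinearMap.range (Cyclic.act 𝕜 W j)) ≤ 1 := by
  by_cases h0 : ∀ v : W, j • v = 0
  · have : Cyclic.act 𝕜 W j = 0 := LinearMap.ext fun v => h0 v
    rw [this, LinearMap.range_zero, finrank_bot]
    exact zero_le_one
  simp only [not_forall] at h0
  obtain ⟨v0, hv0⟩ := h0
  set v := j • v0 with hv
  have hjv : j • v = v := by rw [hv, smul_smul, hj.2.1]
  have hcor : ∀ a, j * (j * a * j) = j * a * j ∧ j * a * j * j = j * a * j := fun a =>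
    ⟨by rw [← mul_assoc, ← mul_assoc, hj.2.1], by rw [mul_assoc, hj.2.1]⟩
  have hnil : ∀ n, j * n = n → n * j = n → IsNilpotent n → n • v = 0 := by
    intro n hn1 hn2 hn
    by_contra hne
    obtain ⟨a, ha⟩ := Cyclic.exists_smul_of_ne_zero (R := MonoidAlgebra 𝕜 G) hne v
    set m := j * a * j * n with hm
    have hmv : m • v = v := by
      rw [hm, mul_assoc (j * a), hn1, mul_smul, mul_smul, ha, hjv]
    have hm1 : j * m = m := by rw [hm, ← mul_assoc, (hcor a).1]
    have hm2 : m * j = m := by rw [hm, mul_assoc, hn2]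
    rcases hj.nilpotent_or_inv 𝕜 hm1 hm2 with ⟨k, hk⟩ | ⟨b, -, hb, -, hbm⟩
    · have : ∀ k : ℕ, m ^ k • v = v := fun k => by
        induction k with
        | zero => rw [pow_zero, one_smul]
        | succ k ih => rw [pow_succ, mul_smul, hmv, ih]
      exact hv0 (by rw [← this k, hk, zero_smul])
    · set X := b * (j * a * j)
      have hXn : X * n = j := by rw [mul_assoc, ← hm, hbm]
      have hXj : X * j = X := by rw [mul_assoc, (hcor a).2]
      obtain ⟨k, hk⟩ := hn
      have : ∀ k : ℕ, X ^ (k + 1) * n ^ (k + 1) = j := fun k => by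
        induction k with
        | zero => rw [zero_add, pow_one, pow_one, hXn]
        | succ k ih =>
          have h1 : X ^ (k + 1) * j = X ^ (k + 1) := by rw [pow_succ, mul_assoc, hXj]
          rw [pow_succ X (k + 1), pow_succ' n (k + 1), mul_assoc (X ^ (k + 1)), ← mul_assoc X n, hXn,
            ← mul_assoc, h1, ih]
      exact hj.1 (by rw [← this k, pow_succ n, hk, zero_mul, mul_zero])
  have hle : LinearMap.range (Cyclic.act 𝕜 W j) ≤ Submodule.span 𝕜 {v} := by
    rintro _ ⟨w, rfl⟩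
    rw [Cyclic.act_apply, Submodule.mem_span_singleton]
    obtain ⟨a, ha⟩ := Cyclic.exists_smul_of_ne_zero (R := MonoidAlgebra 𝕜 G) (v := v) hv0 w
    obtain ⟨c, hc⟩ := hj.exists_scalar (k := 𝕜) (hcor a).1 (hcor a).2
    refine ⟨c, ?_⟩
    have h1 := hnil _ (by rw [mul_sub, (hcor a).1, mul_smul_comm, hj.2.1])
      (by rw [sub_mul, (hcor a).2, smul_mul_assoc, hj.2.1]) hc
    rw [sub_smul, sub_eq_zero, smul_assoc, hjv, mul_smul, hjv, mul_smul, ha] at h1
    exact h1.symm
  exact (Submodule.finrank_mono hle).trans (finrank_span_singleton hv0).le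

set_option maxHeartbeats 800000 in
/-- **A primitive idempotent has trace one.** -/
theorem val_one_prim (hM : IsPModular p M) {B : Set (IrrCharacter G)} (hB : IsPBlock M B)
    {χ₀ : IrrCharacter G} (hχ₀ : χ₀ ∈ B)
    (hreg : ∀ χ ∈ B, ∀ g : G, ¬ p ∣ orderOf g → (χ : G → ℂ) g = (χ₀ : G → ℂ) g)
    {j : MonoidAlgebra 𝕜 G} (hj : IsPrim j) (hjf : j * idem M B = j) :
    val χ₀ 1 1 j = 1 := by
  letI := irrFintype (G := G)
  have hp : p.Prime := Fact.out
  have hp1 : ¬ p ∣ orderOf (1 : G) := by rw [orderOf_one]; exact hp.not_dvd_one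
  set f := idem M B
  have hff : f * f = f := (isBlk_idem hM hB).idem
  have hfc : ∀ y, Commute f y := fun y =>
    (alg_commute le_rfl (suppIn_top y) (isBlk_idem hM hB).mem.2).symm
  have hrank : blockRank p B = 1 := by
    have h1 : (fun χ : IrrCharacter G => pRegularPart p (χ : G → ℂ)) '' B =
        {pRegularPart p (χ₀ : G → ℂ)} := by
      refine Set.Subset.antisymm ?_ (Set.singleton_subset_iff.2 ⟨χ₀, hχ₀, rfl⟩)
      rintro _ ⟨χ, hχ, rfl⟩
      refine Set.mem_singleton_iff.2 (funext fun g => ?_)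
      simp only [BlockB.pRegularPart_eq]
      by_cases hg : p ∣ orderOf g
      · rw [regPart_of_dvd hg, regPart_of_dvd hg]
      · rw [regPart_of_not_dvd hg, regPart_of_not_dvd hg, hreg χ hχ g hg]
    rw [blockRank, h1, finrank_span_singleton]
    intro h2
    have h3 := congrFun h2 1
    rw [BlockB.pRegularPart_eq, regPart_of_not_dvd hp1, (irr_one χ₀).1, Pi.zero_apply,
      Nat.cast_eq_zero] at h3
    exact (irr_one χ₀).2.ne' h3
  have hfX : ∀ x : Cyclic.leftIdeal f, f • x = x := fun x => Subtype.ext (by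
    show f * (x : MonoidAlgebra 𝕜 G) = x
    rw [(hfc _).eq]
    exact (Cyclic.mem_leftIdeal hff).1 x.2)
  haveI : Nontrivial (Cyclic.leftIdeal f) := ⟨⟨⟨f, Submodule.mem_span_singleton_self f⟩, 0,
    fun h => (isBlk_idem hM hB).ne_zero (congrArg Subtype.val h)⟩⟩
  obtain ⟨W, hWs⟩ := Cyclic.exists_simple_submodule (k := 𝕜) (G := G) (S := Cyclic.leftIdeal f)
  haveI : FiniteDimensional 𝕜 W := inferInstanceAs (FiniteDimensional 𝕜 (W.restrictScalars 𝕜))
  have hW : ∀ x : W, f • x = x := fun x => Subtype.ext (hfX (x : Cyclic.leftIdeal f))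
  have hall : ∀ (U : Type u) [AddCommGroup U] [Module 𝕜 U] [Module (MonoidAlgebra 𝕜 G) U]
      [IsScalarTower 𝕜 (MonoidAlgebra 𝕜 G) U] [FiniteDimensional 𝕜 U]
      [IsSimpleModule (MonoidAlgebra 𝕜 G) U], (∀ x : U, f • x = x) →
      Nonempty (U ≃ₗ[MonoidAlgebra 𝕜 G] W) := fun U _ _ _ _ _ _ hU =>
    Cyclic.iso_of_blockRank_one hM hB hrank U W hU hW
  have hle := Cyclic.le_finrank_simple hM hB hχ₀ hreg W hall
  -- the two dimensions
  have hX := Cyclic.finrank_act_mul (k := 𝕜) (f := f) (a := j) hj.2.1 (W := W) hall _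
    (Cyclic.leftIdeal f) rfl hfX
  have hr : (LinearMap.mulLeft 𝕜 j).comp (LinearMap.mulRight 𝕜 f) = LinearMap.mulLeft 𝕜 j := by
    refine LinearMap.ext fun y => ?_
    show j * (y * f) = j * y
    rw [← (hfc y).eq, ← mul_assoc, hjf]
  rw [Cyclic.range_act_leftIdeal, hr] at hX
  obtain ⟨b, hb, hbred⟩ := exists_lift_plain (M := M) hj.2.1
  obtain ⟨r, hrv⟩ : ∃ r : ℕ, val χ₀ 1 1 j = (r : ℂ) := by
    obtain ⟨n, ρ, hρ⟩ := isCharacter_sval χ₀ hb (K := (⊥ : Subgroup G)) fun y hy => by
      rw [Subgroup.mem_bot.1 hy]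
      exact (commute_single_iff _ _).2 fun g => by simp
    refine ⟨n, ?_⟩
    rw [val_one_eq hM χ₀ hb hj.2.1 hbred]
    have h1 := congrFun hρ 1
    rw [Representation.char_one, Module.finrank_fin_fun] at h1
    exact h1.symm
  set δ := charDegree (χ₀ : G → ℂ)
  have hdeg : ∀ χ ∈ B, (χ : G → ℂ) 1 = (δ : ℂ) := fun χ hχ => by
    rw [hreg χ hχ 1 hp1, (irr_one χ₀).1]
  have hval : ∀ χ : IrrCharacter G, val χ 1 1 j = if χ ∈ B then (r : ℂ) else 0 := by
    intro χ
    split_ifs with hχ
    · rw [← hrv, val_one_eq hM χ hb hj.2.1 hbred, val_one_eq hM χ₀ hb hj.2.1 hbred, ← sub_eq_zero]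
      simp only [sval, mul_one, ← sum_sub_distrib, ← mul_sub]
      exact sum_coeff_mul_eq_zero hM hb (θ := fun g => (χ : G → ℂ) g - (χ₀ : G → ℂ) g)
        (fun a g => by simp only [isClassFunction_irr χ a g, isClassFunction_irr χ₀ a g])
        fun g hg => sub_eq_zero.2 (hreg χ hχ g hg)
    · obtain ⟨b', hb', hbred'⟩ := exists_lift_plain (M := M) hj.2.1
      set b'' := b' * Cyclic.liftIdem hB
      have hcom : Commute b' (Cyclic.liftIdem hB) := by
        rw [← MonoidAlgebra.sum_coeff_single b']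
        refine Commute.sum_left _ _ _ fun g _ => ?_
        rw [show (MonoidAlgebra.single g (b'.coeff g) : LA M G) =
          b'.coeff g • MonoidAlgebra.single g (1 : localRing M) by
            rw [MonoidAlgebra.smul_single', mul_one]]
        exact (Cyclic.commute_liftIdem hB g).smul_left _
      have hb'' : b'' * b'' = b'' := by
        show b' * Cyclic.liftIdem hB * (b' * Cyclic.liftIdem hB) = _
        rw [mul_assoc, ← mul_assoc (Cyclic.liftIdem hB), ← hcom.eq,
          mul_assoc b' (Cyclic.liftIdem hB), Cyclic.liftIdem_idem hB, ← mul_assoc, hb']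
      rw [val_one_eq hM χ hb'' hj.2.1 (by rw [map_mul, hbred', Cyclic.redA_liftIdem, hjf])]
      simp only [sval, mul_one, b'', coeff_mul']
      push_cast
      simp only [sum_mul]
      rw [sum_comm]
      refine sum_eq_zero fun h _ => ?_
      have h1 : ∑ k : G, blockCoeff B k * (χ : G → ℂ) (k * h) = 0 := by
        rw [← blockPart_eq_conv B (isClassFunction_irr χ), blockPart_irr, if_neg hχ]
        rfl
      rw [← mul_zero (b'.coeff h : ℂ), ← h1, mul_sum]
      refine Fintype.sum_equiv (Equiv.mulLeft h⁻¹) _ _ fun g => ?_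
      rw [Equiv.coe_mulLeft, Cyclic.coeff_liftIdem, mul_assoc]
      congr 2
      rw [classFun_mul_comm (isClassFunction_irr χ) (h⁻¹ * g) h, mul_inv_cancel_left]
  have hA : (finrank 𝕜 (LinearMap.range (LinearMap.mulLeft 𝕜 j)) : ℂ) =
      (Nat.card B : ℂ) * δ * r := by
    rw [← hbred, Cyclic.finrank_mulLeft hb, ← sum_deg_mul_sval b, Nat.card_eq_fintype_card (α := B),
      Fintype.card_subtype, Finset.sum_congr rfl fun χ _ => by
        rw [← val_one_eq hM χ hb hj.2.1 hbred, hval χ],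
      ← sum_filter_add_sum_filter_not univ (· ∈ B)]
    rw [sum_congr rfl (fun χ hχ => by
        rw [hdeg χ (mem_filter.1 hχ).2, if_pos (mem_filter.1 hχ).2]),
      sum_eq_zero (s := univ.filter fun χ => ¬ χ ∈ B) (fun χ hχ => by
        rw [if_neg (mem_filter.1 hχ).2, mul_zero]), sum_const, nsmul_eq_mul, add_zero]
    ring
  have hdim : (finrank 𝕜 (Cyclic.leftIdeal f) : ℂ) = (Nat.card B : ℂ) * (δ : ℂ) ^ 2 := by
    rw [Cyclic.finrank_block hM hB, sum_congr rfl fun χ hχ => by rw [hdeg χ (mem_filter.1 hχ).2],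
      sum_const, nsmul_eq_mul, Nat.card_eq_fintype_card, Fintype.card_subtype]
  have hX' := congrArg (fun n : ℕ => (n : ℂ)) hX
  simp only [Nat.cast_mul] at hX'
  rw [hA, hdim] at hX'
  haveI : Nonempty B := ⟨⟨χ₀, hχ₀⟩⟩
  have hk0 : (Nat.card B : ℂ) ≠ 0 := Nat.cast_ne_zero.2 Nat.card_pos.ne'
  have hd0 : (δ : ℂ) ≠ 0 := Nat.cast_ne_zero.2 (irr_one χ₀).2.ne'
  set a := finrank 𝕜 (LinearMap.range (Cyclic.act 𝕜 W j))
  have h2 : r * finrank 𝕜 W = δ * a := by
    have : ((r * finrank 𝕜 W : ℕ) : ℂ) = ((δ * a : ℕ) : ℂ) := by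
      push_cast
      refine mul_left_cancel₀ (mul_ne_zero hk0 hd0) ?_
      linear_combination hX'
    exact_mod_cast this
  have ha : a ≤ 1 := finrank_act_prim_le_one hj W
  have hA0 : finrank 𝕜 (LinearMap.range (LinearMap.mulLeft 𝕜 j)) ≠ 0 := by
    rw [Ne, Submodule.finrank_eq_zero, LinearMap.range_eq_bot]
    intro h
    exact hj.1 (by simpa using LinearMap.congr_fun h 1)
  have hr0 : r ≠ 0 := fun h => hA0 (by
    have h3 : (finrank 𝕜 (LinearMap.range (LinearMap.mulLeft 𝕜 j)) : ℂ) = 0 := by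
      rw [hA, h, Nat.cast_zero, mul_zero]
    exact_mod_cast h3)
  have hle' : r * δ ≤ r * finrank 𝕜 W := Nat.mul_le_mul_left r hle
  rw [h2] at hle'
  have : r ≤ 1 := by
    refine Nat.le_of_mul_le_mul_right (hle'.trans ?_) (irr_one χ₀).2
    rw [one_mul]
    calc δ * a ≤ δ * 1 := Nat.mul_le_mul_left δ ha
      _ = δ := mul_one δ
  rw [hrv, show r = 1 by omega, Nat.cast_one]

end CfsgLib.FreeInertial
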