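import Cfsg.Agent.BlocksB.FreeInertial.Signs
import Cfsg.Agent.BlocksB.Cyclic.Relations

/-!
# Orthogonality relations of a block with free inertial action
-/

set_option autoImplicit false
set_option linter.style.haveILetI false
set_option linter.unusedSectionVars false

namespace CfsgLib.FreeInertial

open Cfsg Finset CfsgLib.Block CfsgLib.Block.Chr CfsgLib.BrauerPairs CfsgLib.BlockStar
  CfsgLib.BlockB CfsgLib.SL2C
open scoped ComplexConjugate
open scoped Classical

universe u

variable {M : Ideal AlgInt} [M.IsPrime] {p : ℕ} [Fact p.Prime] [CharP (Residue M) p]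
  {G : Type u} [Group G] [Fintype G]

local notation "𝕜" => Residue M
local notation "Z[" x "]" => Subgroup.zpowers x
local notation "C[" Q "]" => Subgroup.centralizer (SetLike.coe Q)

variable {B : Set (IrrCharacter G)} {P : Subgroup G} {c : Set (IrrCharacter C[P])} {t : G} {n : ℕ}

namespace FreeData

variable (S : FreeData (M := M) p B P c t n) [Fintype P]
include S

theorem inf_eq {u : G} (hu : u ∈ P) (hu1 : u ≠ 1) :
    (stab P (idemIn M C[P] c) ⊓ C[Z[u]] : Subgroup G) = C[P] := by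
  refine le_antisymm (fun g hg => S.free_mem hu hu1 hg.1 (mem_cz.1 hg.2)) (le_inf ?_ ?_)
  · exact centralizer_le_stab S.pair
  · exact Subgroup.centralizer_le (SetLike.coe_subset_coe.2 (Subgroup.zpowers_le.2 hu))

/-- **Sums over the nontrivial subsections.** -/
theorem sum_pairs_free (F : G → MonoidAlgebra 𝕜 G → ℂ)
    (hF0 : ∀ x ∈ pSet p G, ∀ f ∈ blks M x, ¬ IsPairOf p (idem M B) (Z[x], f) → F x f = 0)
    (hFG : ∀ x ∈ pSet p G, ∀ f ∈ blks M x, ∀ g, F (g * x * g⁻¹) (cj 𝕜 g f) = F x f) :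
    (Nat.card G : ℂ) * ∑ u ∈ univ.filter (fun u : P => u ≠ 1),
        F (u : G) (subBlk p P (idemIn M C[P] c) (u : G)) =
      (n : ℂ) * ∑ x ∈ (pSet p G).filter (· ≠ 1),
        (Nat.card C[Z[x]] : ℂ) * ∑ f ∈ blks M x, F x f := by
  have h := AbelianTwist.sum_pairs S.hM S.hB S.hmax S.hab (fun x f => if x = 1 then 0 else F x f)
    (fun x hx f hf hn => by split_ifs <;> first | rfl | exact hF0 x hx f hf hn)
    (fun x hx f hf g => by simp only [conj_eq_one_iff]; split_ifs <;> first | rfl | exact hFG x hx f hf g)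
  have hcard : (Nat.card (stab P (idemIn M C[P] c)) : ℂ) = (n : ℂ) * Nat.card C[P] := by
    rw [← Nat.cast_mul, S.n_eq, Subgroup.relIndex, ← Subgroup.index_mul_card
      ((C[P] : Subgroup G).subgroupOf (stab P (idemIn M C[P] c))),
      Nat.card_congr (Subgroup.subgroupOfEquivOfLe (centralizer_le_stab S.pair)).toEquiv]
  have hC0 : (Nat.card C[P] : ℂ) ≠ 0 := Nat.cast_ne_zero.2 Nat.card_pos.ne'
  rw [hcard, mul_assoc, mul_comm (Nat.card C[P] : ℂ), ← mul_assoc (n : ℂ)] at h
  refine mul_right_cancel₀ hC0 (Eq.trans ?_ (h.trans ?_))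
  · rw [mul_assoc, sum_mul, sum_filter]
    refine congrArg _ (sum_congr rfl fun u _ => ?_)
    by_cases hu : u = 1
    · subst hu; simp
    · have hu' : (u : G) ≠ 1 := fun h' => hu (Subtype.ext h')
      rw [if_pos hu, if_neg hu', AbelianTwist.cnt, S.inf_eq u.2 hu', mul_comm]
  · congr 2
    rw [sum_filter]
    refine sum_congr rfl fun x _ => ?_
    by_cases hx : x = 1 <;> simp [hx]

/-- **The identity decomposes along the subsections.** -/
theorem inner_decomp {χ ψ : IrrCharacter G} (hχψ : χ ∈ B ∨ ψ ∈ B) :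
    (if χ = ψ then 1 else 0 : ℂ) =
      classInner (regPart p (χ : G → ℂ)) (regPart p (ψ : G → ℂ)) +
      (n : ℂ)⁻¹ * ∑ u ∈ univ.filter (fun u : P => u ≠ 1),
        contribR p χ ψ (u : G) (subBlk p P (idemIn M C[P] c) (u : G)) := by
  have hM := S.hM
  have hδ : ∀ φ : IrrCharacter G, starFun p (fun x (_ : MonoidAlgebra 𝕜 G) =>
      if x = 1 then (1 : ℂ) else 0) φ = regPart p (φ : G → ℂ) := fun φ => funext fun g => by
    obtain ⟨x, s, h, rfl⟩ := exists_pElt p g
    by_cases hx : x = 1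
    · subst hx
      rw [starFun_eq _ φ h rfl, wsum_one_eq hM _ φ h, one_mul,
        regPart_of_not_dvd h.reg]
      have h2 := wsum_const_one (M := M) hM φ h
      rw [wsum_one_eq hM _ φ h, one_mul] at h2
      simpa using h2
    · rw [starFun_eq _ φ h rfl, wsum_one_eq hM _ φ h, regPart_of_dvd ?_]
      · simp [hx]
      · obtain ⟨j, hj⟩ := orderOf_eq_pow h
        have hj0 : j ≠ 0 := fun e => hx (orderOf_eq_one_iff.1 (by rw [hj, e, pow_zero]))
        rw [h.comm.orderOf_mul_eq_mul_orderOf_of_coprime (by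
          rw [hj]; exact ((Fact.out : p.Prime).coprime_iff_not_dvd.2 h.reg).pow_left j), hj]
        exact dvd_mul_of_dvd_left (dvd_pow_self p hj0) _
  rw [← classInner_irr, ← starFun_const_one (M := M) hM χ, ← starFun_const_one (M := M) hM ψ,
    classInner_starFun' hM, starFun_const_one hM, starFun_const_one hM, ← hδ χ, ← hδ ψ,
    classInner_starFun' hM, ← sum_filter_add_sum_filter_not (pSet p G) (fun x => x = 1), mul_add]
  congr 1
  · congr 1
    rw [sum_filter]
    refine sum_congr rfl fun x _ => ?_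
    by_cases hx : x = 1 <;> simp [hx]
  · simp only [map_one, one_mul]
    have h2 := S.sum_pairs_free (fun x f => contribR p χ ψ x f)
      (fun x hx f hf hn => contribR_eq_zero hM S.hB hχψ hx (mem_blks.1 hf) hn)
      (fun x hx f hf g => contribR_conj hM χ ψ hx (mem_blks.1 hf) g)
    have hn0 : (n : ℂ) ≠ 0 := Nat.cast_ne_zero.2 S.n_pos.ne'
    have hG0 : (Nat.card G : ℂ) ≠ 0 := Nat.cast_ne_zero.2 Nat.card_pos.ne'
    rw [eq_inv_mul_iff_mul_eq₀ hn0, mul_left_comm, ← h2, inv_mul_cancel_left₀ hG0]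

/-- The induced block at an element. -/
theorem exists_induced_sub {u : G} (hu : u ∈ P) :
    ∃ f : Set (IrrCharacter C[Z[u]]), IsInducedBlockIn M C[Z[u]] C[P] c f ∧
      idemIn M C[Z[u]] f = subBlk p P (idemIn M C[P] c) u := by
  obtain ⟨f, hf⟩ := Inertial.exists_inducedIn S.hM S.pair.1 S.hcB S.hab
    (Subgroup.zpowers_le.2 hu)
  exact ⟨f, hf, ple_unique S.pair
    (Inertial.ple_of_inducedIn S.hM S.pair S.hab (Subgroup.zpowers_le.2 hu) hf)
    (subBlk_ple S.pair hu)⟩

theorem act_injOn {u : P} (hu : u ≠ 1) : Set.InjOn (fun l => S.act l u) ↑(range n) := by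
  have key : ∀ i j, i ≤ j → j < n → S.act i u = S.act j u → i = j := by
    intro i j hij hj he
    rw [← Nat.add_sub_cancel' hij, S.act_add] at he
    have h2 : S.act (j - i) u = u := by
      refine Subtype.ext ?_
      have h' := congrArg Subtype.val he
      rw [S.coe_act, S.coe_act i] at h'
      exact (mul_left_cancel (mul_right_cancel h')).symm
    have h3 := congrArg Subtype.val h2
    rw [S.coe_act] at h3
    have := Nat.eq_zero_of_dvd_of_lt
      (S.free _ _ u.2 (fun h => hu (Subtype.ext h)) h3) (by omega)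
    omega
  intro i hi j hj he
  rw [coe_range, Set.mem_Iio] at hi hj
  rcases le_total i j with h | h
  · exact key i j h hj he
  · exact (key j i h hi he.symm).symm

theorem act_surjective (l : ℕ) : Function.Surjective (S.act l) :=
  Finite.injective_iff_surjective.1 fun a b h => by
    have h' := congrArg Subtype.val h
    rw [S.coe_act, S.coe_act] at h'
    exact Subtype.ext (mul_left_cancel (mul_right_cancel h'))

theorem comm : ∀ a b : P, a * b = b * a := fun a b => Subtype.ext (S.hab a a.2 b b.2)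

/-- The action on the linear characters is free. -/
theorem free_dual {l : ℕ} (hl0 : 0 < l) (hl : l < n) {μ : P →* ℂˣ}
    (h : μ.comp (S.actHom l) = μ) : μ = 1 := by
  have hinj : Function.Injective (fun w : P => S.actHom l w * w⁻¹) := by
    intro w w' he
    simp only at he
    by_contra hne
    have h1 : S.actHom l (w * w'⁻¹) = w * w'⁻¹ := by
      rw [map_mul, map_inv, mul_inv_eq_iff_eq_mul.1 he, mul_assoc (S.actHom l w'),
        S.comm (S.actHom l w'), mul_inv_cancel_right, S.comm]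
    have h2 := congrArg Subtype.val h1
    rw [actHom_apply, S.coe_act] at h2
    have h3 := S.free l ((w * w'⁻¹ : P) : G) (w * w'⁻¹).2
      (fun h' => hne (mul_inv_eq_one.1 (Subtype.ext h'))) h2
    exact absurd (Nat.le_of_dvd hl0 h3) (not_le.2 hl)
  refine MonoidHom.ext fun w => ?_
  obtain ⟨y, rfl⟩ := Finite.injective_iff_surjective.1 hinj w
  have h2 : μ (S.actHom l y) = μ y := DFunLike.congr_fun h y
  rw [map_mul, map_inv, h2, mul_inv_cancel, MonoidHom.one_apply]

theorem dual_injOn {μ : P →* ℂˣ} (hμ : μ ≠ 1) :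
    Set.InjOn (fun l => μ.comp (S.actHom l)) ↑(range n) := by
  have key : ∀ i j, i ≤ j → j < n → μ.comp (S.actHom i) = μ.comp (S.actHom j) → i = j := by
    intro i j hij hj he
    by_contra hne
    refine hμ (S.free_dual (l := j - i) (by omega) (by omega) (MonoidHom.ext fun w => ?_))
    obtain ⟨y, rfl⟩ := S.act_surjective i w
    have := DFunLike.congr_fun he y
    simp only [MonoidHom.comp_apply, actHom_apply] at this ⊢
    rw [this, ← S.act_add, Nat.sub_add_cancel hij]
  intro i hi j hj he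
  rw [coe_range, Set.mem_Iio] at hi hj
  rcases le_total i j with h | h
  · exact key i j h hj he
  · exact (key j i h hi he.symm).symm

end FreeData

namespace FreeVals

variable [Fintype P] {D : IrrCharacter G → P → ℂ} (S : FreeData (M := M) p B P c t n)
  (V : FreeVals (M := M) p P c t D) [Fintype B]
include S V

theorem val_act (χ : IrrCharacter G) {u : P} (hu : u ≠ 1) (l : ℕ) :
    D χ (S.act l u) = D χ u := by
  induction l with
  | zero => rw [S.act_zero]
  | succ l ih =>
    rw [V.inv χ (S.act l u) (S.act (l + 1) u) (S.act_ne_one hu l) ?_, ih]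
    rw [S.coe_act, S.coe_act, pow_succ']; group

theorem sum_norm {u : P} (hu : u ≠ 1) :
    ∑ φ : B, ‖D φ.1 u‖ ^ 2 = (Nat.card P : ℝ) := by
  letI := irrFintype (G := G)
  have hM := S.hM
  have hP := S.pair
  haveI : Fintype C[Z[(u : G)]] := Fintype.ofFinite _
  obtain ⟨d, hd, hde⟩ := exists_idemIn_eq hM
    (PLE.isPair (subBlk_ple hP u.2) hP).2
  have hpair : IsPairOf p (idem M B) (Z[(u : G)], idemIn M C[Z[(u : G)]] d) := by
    rw [hde]
    exact (isPairOf_iff_of_ple (isBlk_idem hM S.hB) (subBlk_ple hP u.2) hP).2 S.hmax.1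
  have hind := isInducedBlock_of_isBrauerPairOf hM (zpowers_le_centralizer_zpowers _)
    ((isBrauerPairOf_iff hM).2 ⟨⟨hpair.1.1, hd⟩, S.hB, hpair⟩)
  obtain ⟨N, hN⟩ := mem_pSet.1 (mem_pSet_of_mem hP u.2)
  obtain ⟨k, -, hk⟩ := (Nat.dvd_prime_pow hM.1).1 (orderOf_dvd_of_pow_eq_one hN)
  have hc : ∀ χ ψ : IrrCharacter G, CfsgLib.BlockB.contrib p d (u : G) χ ψ =
      D χ u * conj (D ψ u) * (Nat.card P : ℂ)⁻¹ := fun χ ψ => by
    have h := contribR_idemIn hM χ ψ (mem_pSet_of_mem hP u.2) hd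
    rw [hde, V.contrib χ ψ u hu] at h
    convert h.symm
  obtain ⟨χ, hχ, h0⟩ := exists_height_zero hM S.hB
  have hne := contribR_ne_zero hM S.hB hχ h0 S.hmax u.2
  rw [V.contrib χ χ u hu] at hne
  have h := contrib_mul hM (centralizer_zpowers_eq _) hk hind χ χ
  simp only [hc] at h
  rw [sum_subtype (univ.filter (· ∈ B)) (p := (· ∈ B)) (by simp)
    (fun ψ : IrrCharacter G => D χ u * conj (D ψ u) * (Nat.card P : ℂ)⁻¹ *
      (D ψ u * conj (D χ u) * (Nat.card P : ℂ)⁻¹))] at h
  have h2 : (D χ u * conj (D χ u) * (Nat.card P : ℂ)⁻¹) *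
      ((∑ φ : B, (‖D φ.1 u‖ : ℂ) ^ 2) * (Nat.card P : ℂ)⁻¹) =
      (D χ u * conj (D χ u) * (Nat.card P : ℂ)⁻¹) * 1 := by
    rw [mul_one]
    refine Eq.trans ?_ h
    rw [sum_mul, mul_sum]
    exact sum_congr rfl fun φ _ => by rw [← Complex.mul_conj']; ring
  have h3 := mul_left_cancel₀ hne h2
  rw [mul_inv_eq_one₀ (Nat.cast_ne_zero.2 Nat.card_pos.ne')] at h3
  exact_mod_cast h3

/-- The identity on the members of the block. -/
theorem decomp (χ ψ : B) :
    (if χ = ψ then 1 else 0 : ℂ) =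
      classInner (regPart p ((χ : IrrCharacter G) : G → ℂ))
        (regPart p ((ψ : IrrCharacter G) : G → ℂ)) +
      ((n : ℂ) * Nat.card P)⁻¹ * ∑ u ∈ univ.filter (fun u : P => u ≠ 1),
        D χ.1 u * conj (D ψ.1 u) := by
  have h := S.inner_decomp (χ := χ.1) (ψ := ψ.1) (Or.inl χ.2)
  simp only [← Subtype.ext_iff] at h
  rw [h, mul_inv, mul_assoc]
  congr 2
  rw [mul_sum]
  exact sum_congr rfl fun u hu => by rw [V.contrib _ _ u (mem_filter.1 hu).2]; ring

/-- The norm of a combination of the members. -/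
theorem norm_split (co : B → ℂ) :
    (Nat.card G : ℝ)⁻¹ * ∑ g : G,
        ‖regPart p (fun g => ∑ χ : B, co χ * ((χ : IrrCharacter G) : G → ℂ) g) g‖ ^ 2 +
      ((n : ℝ) * Nat.card P)⁻¹ * ∑ u ∈ univ.filter (fun u : P => u ≠ 1),
        ‖∑ χ : B, co χ * D χ.1 u‖ ^ 2 =
      ∑ χ : B, ‖co χ‖ ^ 2 := by
  suffices h : ((((Nat.card G : ℝ)⁻¹ * ∑ g : G,
        ‖regPart p (fun g => ∑ χ : B, co χ * ((χ : IrrCharacter G) : G → ℂ) g) g‖ ^ 2 : ℝ)) : ℂ) +
      ((n : ℂ) * Nat.card P)⁻¹ * ∑ u ∈ univ.filter (fun u : P => u ≠ 1),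
        ((∑ χ : B, co χ * D χ.1 u) * conj (∑ χ : B, co χ * D χ.1 u)) =
      ∑ χ : B, co χ * conj (co χ) by
    simp only [Complex.mul_conj'] at h
    apply Complex.ofReal_injective
    push_cast at h ⊢
    exact h
  rw [← Cyclic.classInner_self_real]
  have hF : regPart p (fun g => ∑ χ : B, co χ * ((χ : IrrCharacter G) : G → ℂ) g) =
      ∑ χ : B, co χ • regPart p ((χ : IrrCharacter G) : G → ℂ) := funext fun g => by
    rw [Finset.sum_apply]
    by_cases hg : p ∣ orderOf g
    · rw [regPart_of_dvd hg]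
      exact (sum_eq_zero fun χ _ => by rw [Pi.smul_apply, regPart_of_dvd hg, smul_zero]).symm
    · rw [regPart_of_not_dvd hg]
      exact sum_congr rfl fun χ _ => by rw [Pi.smul_apply, regPart_of_not_dvd hg, smul_eq_mul]
  have hsq : ∀ u : P, (∑ χ : B, co χ * D χ.1 u) * conj (∑ χ : B, co χ * D χ.1 u) =
      ∑ χ : B, ∑ ψ : B, co χ * conj (co ψ) * (D χ.1 u * conj (D ψ.1 u)) := fun u => by
    rw [map_sum, sum_mul_sum]
    exact sum_congr rfl fun χ _ => sum_congr rfl fun ψ _ => by rw [map_mul]; ring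
  simp only [hsq]
  rw [hF, CfsgLib.Char.classInner_sum_left]
  simp only [CfsgLib.Char.classInner_sum_right, CfsgLib.Char.classInner_smul_left,
    CfsgLib.Char.classInner_smul_right, map_sum, map_mul, mul_sum, sum_mul]
  rw [sum_comm (s := univ.filter fun u : P => u ≠ 1), ← sum_add_distrib]
  refine sum_congr rfl fun χ _ => ?_
  rw [sum_comm (s := univ.filter fun u : P => u ≠ 1)]
  have : co χ * conj (co χ) = ∑ ψ : B, co χ * conj (co ψ) * (if χ = ψ then 1 else 0) := by
    simp
  rw [this]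
  simp only [decomp S V, mul_add, mul_sum, ← sum_add_distrib]
  rw [sum_add_distrib, sum_add_distrib]
  congr 1
  · exact sum_congr rfl fun ψ _ => by ring
  · exact sum_congr rfl fun ψ _ => sum_congr rfl fun u _ => by ring

/-- **The values are orthogonal, also to the regular parts.** -/
theorem orth_aux {v : P} (hv : v ≠ 1) :
    (∀ u : P, u ≠ 1 → u ∉ (range n).image (fun l => S.act l v) →
      ∑ χ : B, D χ.1 u * conj (D χ.1 v) = 0) ∧
    ∀ g : G, ¬ p ∣ orderOf g →
      ∑ χ : B, conj (D χ.1 v) * ((χ : IrrCharacter G) : G → ℂ) g = 0 := by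
  set co : B → ℂ := fun χ => conj (D χ.1 v) with hco
  have h := norm_split S V co
  have hco2 : ∑ χ : B, ‖co χ‖ ^ 2 = (Nat.card P : ℝ) := by
    rw [← sum_norm S V hv]
    exact sum_congr rfl fun χ _ => by rw [hco, Complex.norm_conj]
  set T := (range n).image (fun l => S.act l v) with hT
  have hTsub : T ⊆ univ.filter (fun u : P => u ≠ 1) := fun u hu => by
    obtain ⟨l, -, rfl⟩ := mem_image.1 hu
    exact mem_filter.2 ⟨mem_univ _, S.act_ne_one hv l⟩
  have hTcard : T.card = n := by rw [hT, card_image_of_injOn (S.act_injOn hv), card_range]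
  have hTval : ∀ u ∈ T, ‖∑ χ : B, co χ * D χ.1 u‖ ^ 2 = (Nat.card P : ℝ) ^ 2 := by
    intro u hu
    obtain ⟨l, -, rfl⟩ := mem_image.1 hu
    have h1 : ∑ χ : B, co χ * D χ.1 (S.act l v) = ((Nat.card P : ℝ) : ℂ) := by
      rw [← sum_norm S V hv, Complex.ofReal_sum]
      refine sum_congr rfl fun χ _ => ?_
      rw [val_act S V χ.1 hv, hco, Complex.ofReal_pow, ← Complex.mul_conj', mul_comm]
    rw [h1, Complex.norm_real, Real.norm_eq_abs, abs_of_nonneg (Nat.cast_nonneg _)]
  rw [hco2, ← sum_sdiff hTsub, sum_congr (s₁ := T) rfl hTval, sum_const, hTcard, nsmul_eq_mul,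
    mul_add, ← add_assoc] at h
  have hn0 : (n : ℝ) ≠ 0 := Nat.cast_ne_zero.2 S.n_pos.ne'
  have hP0 : (Nat.card P : ℝ) ≠ 0 := Nat.cast_ne_zero.2 Nat.card_pos.ne'
  rw [show ((n : ℝ) * Nat.card P)⁻¹ * ((n : ℝ) * (Nat.card P : ℝ) ^ 2) = (Nat.card P : ℝ) by
    field_simp] at h
  have h0 := add_eq_right.1 h
  obtain ⟨hA, hB'⟩ := (add_eq_zero_iff_of_nonneg
    (mul_nonneg (inv_nonneg.2 (Nat.cast_nonneg _)) (sum_nonneg fun _ _ => sq_nonneg _))
    (mul_nonneg (inv_nonneg.2 (mul_nonneg (Nat.cast_nonneg _) (Nat.cast_nonneg _)))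
      (sum_nonneg fun _ _ => sq_nonneg _))).1 h0
  refine ⟨fun u hu huT => ?_, fun g hg => ?_⟩
  · have h1 := (sum_eq_zero_iff_of_nonneg fun _ _ => sq_nonneg _).1
      ((mul_eq_zero.1 hB').resolve_left (inv_ne_zero (mul_ne_zero hn0 hP0))) u
      (mem_sdiff.2 ⟨mem_filter.2 ⟨mem_univ _, hu⟩, huT⟩)
    rw [← norm_eq_zero.1 ((pow_eq_zero_iff two_ne_zero).1 h1)]
    exact sum_congr rfl fun χ _ => mul_comm _ _
  · have h1 := (sum_eq_zero_iff_of_nonneg fun _ _ => sq_nonneg _).1
      ((mul_eq_zero.1 hA).resolve_left (inv_ne_zero (Nat.cast_ne_zero.2 Nat.card_pos.ne'))) g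
      (mem_univ g)
    have h2 := norm_eq_zero.1 ((pow_eq_zero_iff two_ne_zero).1 h1)
    rwa [regPart_of_not_dvd hg] at h2

/-- The inner products of the values. -/
theorem orth {u v : P} (hu : u ≠ 1) (hv : v ≠ 1) :
    ∑ χ : B, D χ.1 u * conj (D χ.1 v) =
      if u ∈ (range n).image (fun l => S.act l v) then (Nat.card P : ℂ) else 0 := by
  split_ifs with h
  · obtain ⟨l, -, rfl⟩ := mem_image.1 h
    rw [show (Nat.card P : ℂ) = ((Nat.card P : ℝ) : ℂ) by norm_num, ← sum_norm S V hv,
      Complex.ofReal_sum]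
    exact sum_congr rfl fun χ _ => by
      rw [val_act S V χ.1 hv, Complex.ofReal_pow, Complex.mul_conj']
  · exact (orth_aux S V hv).1 u hu h

/-- **The number of members is the rank plus the number of orbits.** -/
theorem card_relation :
    n * Nat.card B + 1 = n * blockRank p B + Nat.card P := by
  have hM := S.hM
  have h1 : ∀ χ : B, classInner (regPart p ((χ : IrrCharacter G) : G → ℂ))
      (regPart p ((χ : IrrCharacter G) : G → ℂ)) = regMat p B χ χ := fun χ => by
    rw [regMat, CfsgLib.Char.classInner_def, CfsgLib.Char.classInner_def]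
    refine congrArg _ (sum_congr rfl fun g _ => ?_)
    by_cases hg : p ∣ orderOf g
    · rw [regPart_of_dvd hg, zero_mul, zero_mul]
    · rw [regPart_of_not_dvd hg]
  have hs := sum_congr (s₁ := (univ : Finset B)) rfl fun χ _ => decomp S V χ χ
  simp only [if_true, sum_const, card_univ, nsmul_eq_mul, mul_one, h1, sum_add_distrib,
    ← blockRank_eq_trace hM S.hB, ← mul_sum] at hs
  rw [sum_comm] at hs
  rw [sum_congr rfl fun u hu => show (∑ χ : B, D χ.1 u * conj (D χ.1 u)) =
      ((Nat.card P : ℝ) : ℂ) from by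
    rw [← sum_norm S V (mem_filter.1 hu).2, Complex.ofReal_sum]
    exact sum_congr rfl fun χ _ => by rw [Complex.ofReal_pow, Complex.mul_conj'],
    sum_const, nsmul_eq_mul, filter_ne' univ (1 : P), card_erase_of_mem (mem_univ _), card_univ,
    ← Nat.card_eq_fintype_card (α := P), ← Nat.card_eq_fintype_card (α := B),
    Complex.ofReal_natCast, Nat.cast_sub Nat.card_pos, Nat.cast_one] at hs
  have hn0 : (n : ℂ) ≠ 0 := Nat.cast_ne_zero.2 S.n_pos.ne'
  have hP0 : (Nat.card P : ℂ) ≠ 0 := Nat.cast_ne_zero.2 Nat.card_pos.ne'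
  field_simp at hs
  have : ((n * Nat.card B + 1 : ℕ) : ℂ) = ((n * blockRank p B + Nat.card P : ℕ) : ℂ) := by
    push_cast
    linear_combination hs
  exact_mod_cast this

/-- The values do not vanish. -/
theorem val_ne_zero (x : B) {u : P} (hu : u ≠ 1) : D x.1 u ≠ 0 := by
  have hM := S.hM
  have hP := S.pair
  have hab := S.hab
  haveI : Fintype C[Z[(u : G)]] := Fintype.ofFinite _
  obtain ⟨d, hd, hde⟩ := S.exists_induced_sub u.2
  obtain ⟨e', -, hP', hmax'⟩ := Inertial.local_maxPair hM S.hB hP S.hmax hab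
    (Subgroup.zpowers_le.2 u.2) hd
  have hPQ : P ≤ C[Z[(u : G)]] := fun y hy => mem_cz.2 (hab y hy _ u.2)
  have hcard := card_defectGroup hM hd.2.1
    (isDefectGroup_of_isDef hM hd.2.1 (hmax'.isDef (isBlk_idem hM hd.2.1)))
  rw [Nat.card_congr (Subgroup.subgroupOfEquivOfLe hPQ).toEquiv,
    card_defectGroup hM S.hB (isDefectGroup_of_isDef hM S.hB (S.hmax.isDef (isBlk_idem hM S.hB)))]
    at hcard
  have hbd : blockDefect p d = blockDefect p B :=
    (Nat.pow_right_injective hM.1.two_le hcard).symm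
  have hpair : IsPairOf p (idem M B) (Z[(u : G)], idemIn M C[Z[(u : G)]] d) := by
    rw [hde]
    exact (isPairOf_iff_of_ple (isBlk_idem hM S.hB) (subBlk_ple hP u.2) hP).2 S.hmax.1
  have hind := isInducedBlock_of_isBrauerPairOf hM (zpowers_le_centralizer_zpowers _)
    ((isBrauerPairOf_iff hM).2 ⟨⟨hpair.1.1, hd.2.1⟩, S.hB, hpair⟩)
  obtain ⟨N, hN⟩ := mem_pSet.1 (mem_pSet_of_mem hP u.2)
  obtain ⟨k, -, hk⟩ := (Nat.dvd_prime_pow hM.1).1 (orderOf_dvd_of_pow_eq_one hN)
  obtain ⟨ξ, hξ, h0⟩ := exists_height_zero hM S.hB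
  intro h
  refine contrib_ne_zero hM (centralizer_zpowers_eq _) hk hind hbd x.2 hξ h0 ?_
  have h2 := contribR_idemIn hM x.1 ξ (mem_pSet_of_mem hP u.2) hd.2.1
  rw [hde, V.contrib x.1 ξ u hu, h, zero_mul, zero_mul] at h2
  convert h2.symm

/-- **Integral vectors with the inner products of exceptional differences.** -/
theorem exists_dvec :
    ∃ d : (P →* ℂˣ) → B → ℤ,
      (∀ μ ν : P →* ℂˣ, μ ≠ 1 → ν ≠ 1 → ∑ x : B, d μ x * d ν x =
        (n : ℤ) + (((range n).filter fun l => ν = μ.comp (S.actHom l)).card : ℤ)) ∧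
      (∀ μ, ∑ x : B, (charDegree ((x : IrrCharacter G) : G → ℂ) : ℤ) * d μ x = 0) ∧
      ∀ x : B, ∃ μ, μ ≠ 1 ∧ d μ x ≠ 0 := by
  choose E hE hEv using fun x : B => V.gen x.1
  choose m hm using fun (x : B) (μ : P →* ℂˣ) =>
    CfsgLib.Char.IsGeneralized.exists_classInner_eq_int (hE x) (isGen_hom μ)
  have hP0 : (Nat.card P : ℂ) ≠ 0 := Nat.cast_ne_zero.2 Nat.card_pos.ne'
  have hm' : ∀ x μ, ∑ u : P, E x u * conj (μ u : ℂ) = (Nat.card P : ℂ) * m x μ := fun x μ => by
    rw [← hm x μ, CfsgLib.Char.classInner_def, mul_inv_cancel_left₀ hP0]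
  set d : (P →* ℂˣ) → B → ℤ := fun μ x => m x μ - m x 1 with hd
  have hcd : ∀ μ x, (Nat.card P : ℂ) * (d μ x : ℂ) =
      ∑ u : P, D x.1 u * (conj (μ u : ℂ) - 1) := by
    intro μ x
    rw [hd]
    simp only [Int.cast_sub, mul_sub, ← hm', ← sum_sub_distrib]
    refine sum_congr rfl fun u _ => ?_
    simp only [MonoidHom.one_apply, Units.val_one, map_one]
    by_cases hu : u = 1
    · subst hu; simp
    · rw [hEv x u hu]
  refine ⟨d, fun μ ν hμ hν => ?_, fun μ => ?_, fun x => ?_⟩
  · have key : ((Nat.card P : ℂ) * Nat.card P) * ∑ x : B, (d μ x : ℂ) * (d ν x : ℂ) =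
        ((Nat.card P : ℂ) * Nat.card P) *
          ((n : ℂ) + (((range n).filter fun l => ν = μ.comp (S.actHom l)).card : ℂ)) := by
      have e1 : ∀ x : B, (Nat.card P : ℂ) * Nat.card P * ((d μ x : ℂ) * (d ν x : ℂ)) =
          ∑ u : P, ∑ v : P, (conj (μ u : ℂ) - 1) * ((ν v : ℂ) - 1) *
            (D x.1 u * conj (D x.1 v)) := by
        intro x
        have h2 := congrArg conj (hcd ν x)
        rw [map_mul, map_natCast, map_intCast, map_sum] at h2
        rw [show (Nat.card P : ℂ) * Nat.card P * ((d μ x : ℂ) * (d ν x : ℂ)) =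
          ((Nat.card P : ℂ) * d μ x) * ((Nat.card P : ℂ) * d ν x) by ring,
          hcd μ x, h2, sum_mul_sum]
        refine sum_congr rfl fun u _ => sum_congr rfl fun v _ => ?_
        rw [map_mul, map_sub, map_one, Complex.conj_conj]
        ring
      rw [mul_sum, sum_congr rfl fun x _ => e1 x, sum_comm, sum_congr rfl fun u _ => sum_comm]
      simp only [← mul_sum]
      rw [sum_comm]
      have e2 : ∀ v : P, ∑ u : P, (conj (μ u : ℂ) - 1) * ((ν v : ℂ) - 1) *
            ∑ x : B, D x.1 u * conj (D x.1 v) =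
          ∑ l ∈ range n,
            (Nat.card P : ℂ) * ((conj (μ (S.act l v) : ℂ) - 1) * ((ν v : ℂ) - 1)) := by
        intro v
        by_cases hv : v = 1
        · subst hv
          simp
        rw [← sum_image (g := fun l => S.act l v)
          (f := fun u => (Nat.card P : ℂ) * ((conj (μ u : ℂ) - 1) * ((ν v : ℂ) - 1)))
          (S.act_injOn hv)]
        symm
        refine (sum_congr rfl fun u hu => ?_).trans
          (sum_subset (subset_univ _) fun u _ hu => ?_)
        · obtain ⟨l, -, rfl⟩ := mem_image.1 hu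
          rw [orth S V (S.act_ne_one hv l) hv, if_pos hu]
          ring
        · by_cases hu1 : u = 1
          · subst hu1; simp
          · rw [orth S V hu1 hv, if_neg hu, mul_zero]
      rw [sum_congr rfl fun v _ => e2 v, sum_comm]
      simp only [← mul_sum]
      rw [mul_assoc]
      congr 1
      have e3 : ∀ l, ∑ v : P, (conj (μ (S.act l v) : ℂ) - 1) * ((ν v : ℂ) - 1) =
          (Nat.card P : ℂ) * ((if ν = μ.comp (S.actHom l) then 1 else 0) + 1) := by
        intro l
        have hne : μ.comp (S.actHom l) ≠ 1 := fun h => hμ (MonoidHom.ext fun w => by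
          obtain ⟨y, rfl⟩ := S.act_surjective l w
          exact DFunLike.congr_fun h y)
        have e4 : ∀ v : P, (conj (μ (S.act l v) : ℂ) - 1) * ((ν v : ℂ) - 1) =
            (((μ.comp (S.actHom l))⁻¹ * ν) v : ℂ) - (((μ.comp (S.actHom l))⁻¹) v : ℂ) -
              (ν v : ℂ) + 1 :=
          fun v => by
            rw [MonoidHom.mul_apply, Units.val_mul, ← conj_char, MonoidHom.comp_apply,
              FreeData.actHom_apply]
            ring
        have i1 : (μ.comp (S.actHom l))⁻¹ * ν = 1 ↔ ν = μ.comp (S.actHom l) := by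
          exact (inv_mul_eq_one (G := P →* ℂˣ)).trans eq_comm
        simp only [e4, sum_add_distrib, sum_sub_distrib, sum_char]
        rw [if_neg (fun h => hne ((inv_eq_one (α := P →* ℂˣ)).1 h)), if_neg hν, sum_const,
          card_univ, nsmul_eq_mul, mul_one, Nat.card_eq_fintype_card]
        by_cases hh : ν = μ.comp (S.actHom l)
        · rw [if_pos hh, if_pos (i1.2 hh)]; ring
        · rw [if_neg hh, if_neg fun h => hh (i1.1 h)]; ring
      simp only [e3, ← mul_sum, sum_add_distrib, sum_const, card_range, nsmul_eq_mul, mul_one,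
        sum_boole]
      ring
    have h := mul_left_cancel₀ (mul_ne_zero hP0 hP0) key
    exact_mod_cast h
  · have h : ((∑ x : B, (charDegree ((x : IrrCharacter G) : G → ℂ) : ℤ) * d μ x : ℤ) : ℂ) = 0 := by
      push_cast
      refine (mul_eq_zero.1 (?_ : (Nat.card P : ℂ) * ∑ x : B,
        (charDegree ((x : IrrCharacter G) : G → ℂ) : ℂ) * (d μ x : ℂ) = 0)).resolve_left hP0
      rw [mul_sum]
      simp only [mul_left_comm (Nat.card P : ℂ), hcd, mul_sum]
      rw [sum_comm]
      refine sum_eq_zero fun u _ => ?_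
      by_cases hu : u = 1
      · subst hu; simp
      · have h1 := congrArg conj ((orth_aux S V hu).2 1
          (by rw [orderOf_one]; exact (Fact.out : p.Prime).not_dvd_one))
        rw [map_zero, map_sum] at h1
        simp only [← mul_assoc, ← sum_mul]
        rw [show (∑ x : B, (charDegree ((x : IrrCharacter G) : G → ℂ) : ℂ) * D x.1 u) = 0 from ?_,
          zero_mul]
        refine Eq.trans (sum_congr rfl fun x _ => ?_) h1
        rw [map_mul, Complex.conj_conj, (irr_one _).1, Complex.conj_natCast, mul_comm]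
    exact_mod_cast h
  · by_contra hne
    simp only [not_exists, not_and, not_not] at hne
    obtain ⟨u, hu⟩ : ∃ u : P, u ≠ 1 :=
      haveI := (Subgroup.nontrivial_iff_ne_bot P).2 S.hP1
      exists_ne 1
    refine val_ne_zero S V x hu ?_
    rw [← hEv x u hu]
    have hall : ∀ μ, m x μ = m x 1 := fun μ => by
      by_cases hμ : μ = 1
      · rw [hμ]
      · exact sub_eq_zero.1 (hne μ hμ)
    have h2 : (Nat.card P : ℂ) * E x u =
        ∑ μ : P →* ℂˣ, (∑ v : P, E x v * conj (μ v : ℂ)) * (μ u : ℂ) := by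
      simp only [sum_mul]
      rw [sum_comm, sum_eq_single u]
      · rw [sum_congr rfl fun μ _ => show E x u * conj (μ u : ℂ) * (μ u : ℂ) = E x u by
          rw [mul_assoc, conj_char, ← Units.val_mul, MonoidHom.inv_apply, inv_mul_cancel,
            Units.val_one, mul_one], sum_const, card_univ, card_dual S.comm, nsmul_eq_mul,
          Nat.card_eq_fintype_card]
      · intro v _ hv
        simp only [mul_assoc, conj_char, ← Units.val_mul, MonoidHom.inv_apply, ← map_inv, ← map_mul,
          ← mul_sum, sum_dual S.comm]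
        rw [if_neg fun h => hv (inv_mul_eq_one.1 h), mul_zero]
      · simp
    simp only [hm', hall, ← mul_sum, sum_dual S.comm, if_neg hu, mul_zero] at h2
    exact (mul_eq_zero.1 h2).resolve_left hP0

end FreeVals

end CfsgLib.FreeInertial
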