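import Cfsg.Agent.BlocksB.FreeInertial.Source
import Cfsg.Agent.BlocksB.FreeInertial.Marks

/-!
# Local values forming generalized characters of the defect group

With free inertial action the local values can be signed so that they are invariant under the
inertial group and are, away from the identity, generalized characters of the defect group.
-/

set_option autoImplicit false
set_option linter.style.haveILetI false
set_option linter.unusedSectionVars false

namespace CfsgLib.FreeInertial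

open Cfsg Finset CfsgLib.Block CfsgLib.Block.Chr CfsgLib.BrauerPairs CfsgLib.BlockStar
  CfsgLib.BlockB CfsgLib.SL2C
open scoped ComplexConjugate
open scoped Classical

universe u

variable {M : Ideal AlgInt} [M.IsPrime] {p : ℕ} [Fact p.Prime] [CharP (Residue M) p]
  {G : Type u} [Group G] [Fintype G]

local notation "𝕜" => Residue M
local notation "Z[" x "]" => Subgroup.zpowers x
local notation "C[" Q "]" => Subgroup.centralizer (SetLike.coe Q)

variable {B : Set (IrrCharacter G)} {P : Subgroup G} {c : Set (IrrCharacter C[P])} {t : G} {n : ℕ}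

/-- The multiplicity at a subgroup of the defect group. -/
noncomputable def mult (p : ℕ) (P : Subgroup G) (e i : MonoidAlgebra 𝕜 G) (X : Subgroup P) : ℤ :=
  (rk p P e i (X.map P.subtype) : ℤ)

theorem mult_zpowers (e i : MonoidAlgebra 𝕜 G) (v : P) :
    mult p P e i (Subgroup.zpowers v) = (rk p P e i Z[(v : G)] : ℤ) := by
  rw [mult, MonoidHom.map_zpowers]
  rfl

namespace FreeData

variable (S : FreeData (M := M) p B P c t n)
include S

theorem exists_char_at [Fintype P] {X : Subgroup P} (hX : X ≠ ⊥) :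
    ∃ (z : P → ℂ) (w : X →* ℂˣ), (∀ v, IsIntegral ℤ (z v) ∧ ‖z v‖ = 1) ∧ (∀ q, ‖(w q : ℂ)‖ = 1) ∧
      ∀ i, IsSource P (idemIn M C[P] c) i → ∃ C : P → ℂ, IsGeneralizedCharacter P C ∧
        (∀ v : P, C v =
          (mult p P (idemIn M C[P] c) i (X ⊔ Subgroup.zpowers v) : ℂ) * z v) ∧
        (∀ q : X, C q = (mult p P (idemIn M C[P] c) i X : ℂ) * (w q : ℂ)) ∧
        (X = ⊤ → C 1 = 1) := by
  have hXP : X.map P.subtype ≤ P := Subgroup.map_subtype_le X
  have hX1 : X.map P.subtype ≠ ⊥ :=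
    fun h => hX ((Subgroup.map_eq_bot_iff_of_injective X P.subtype_injective).1 h)
  obtain ⟨z, w, hz, hw, hC⟩ := S.exists_local_char hXP hX1
  let φ : X →* X.map P.subtype := (X.equivMapOfInjective P.subtype P.subtype_injective).toMonoidHom
  refine ⟨z, w.comp φ, hz, fun q => hw (φ q), fun i hi => ?_⟩
  obtain ⟨C, hC, hv, hq, htop⟩ := hC i hi
  refine ⟨C, CfsgLib.Char.IsCharacter.isGeneralized hC, fun v => ?_, fun q => ?_, fun h => ?_⟩
  · rw [hv v, mult, Subgroup.map_sup, MonoidHom.map_zpowers]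
    rfl
  · rw [mult, Int.cast_natCast]
    exact hq (φ q)
  · exact htop (by rw [h, ← MonoidHom.range_eq_map, Subgroup.range_subtype])

theorem top_ne_bot : (⊤ : Subgroup P) ≠ ⊥ := fun h => S.hP1 (by
  rw [← Subgroup.range_subtype P, MonoidHom.range_eq_map, h, Subgroup.map_bot])

theorem mult_top [Fintype P] {i : MonoidAlgebra 𝕜 G} (hi : IsSource P (idemIn M C[P] c) i) :
    mult p P (idemIn M C[P] c) i ⊤ = 1 := by
  obtain ⟨z, w, -, -, hC⟩ := S.exists_char_at S.top_ne_bot
  obtain ⟨C, -, -, hq, h1⟩ := hC i hi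
  have h := hq 1
  rw [OneMemClass.coe_one, h1 rfl, map_one, Units.val_one, mul_one] at h
  exact_mod_cast h.symm

theorem dvd_index {X : Subgroup P} (hX : X ≠ ⊤) : (p : ℤ) ∣ (X.index : ℤ) := by
  haveI : Finite P := inferInstance
  obtain ⟨k, hk⟩ := S.pair.1.index X
  have hk0 : k ≠ 0 := fun h => hX (Subgroup.index_eq_one.1 (by rw [hk, h, pow_zero]))
  rw [hk]
  exact_mod_cast dvd_pow_self p hk0

theorem isCoprime_card [Fintype P] {a : ℤ} (ha : ¬ (p : ℤ) ∣ a) :
    IsCoprime a (Nat.card P : ℤ) := by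
  obtain ⟨k, hk⟩ := S.pair.1.exists_card_eq
  rw [hk, Nat.cast_pow]
  exact (((Nat.prime_iff_prime_int.1 (Fact.out : p.Prime)).coprime_iff_not_dvd.2 ha).pow_left).symm

/-- **Signed marks of a source.** -/
theorem exists_signed [Fintype P] {i : MonoidAlgebra 𝕜 G}
    (hi : IsSource P (idemIn M C[P] c) i) :
    ∃ f : P → ℤ, IsGeneralizedCharacter P (fun v => (f v : ℂ)) ∧
      (∀ v, v ≠ 1 → (f v = mult p P (idemIn M C[P] c) i (Subgroup.zpowers v) ∨
        f v = -mult p P (idemIn M C[P] c) i (Subgroup.zpowers v)) ∧ ¬ (p : ℤ) ∣ f v) ∧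
      ∀ v w, (p : ℤ) ∣ f v - f w := by
  have hcomm : ∀ a b : P, a * b = b * a := fun a b => Subtype.ext (S.hab a a.2 b b.2)
  have hp : p.Prime := Fact.out
  set a := mult p P (idemIn M C[P] c) i with ha
  refine exists_marks hcomm S.pair.1 (fun X x => (x = a X ∨ x = -a X) ∧ ¬ (p : ℤ) ∣ x) ?_
  intro Q hQ F hF hFQ hok hcong
  by_cases hQt : Q = ⊤
  · subst hQt
    refine ⟨a ⊤, ⟨Or.inl rfl, ?_⟩, by simp⟩
    rw [ha, S.mult_top hi]
    exact_mod_cast hp.not_dvd_one
  obtain ⟨v₀, hv₀⟩ : ∃ v, v ∉ Q := by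
    by_contra h
    exact hQt ((Subgroup.eq_top_iff' Q).2 fun v => by_contra fun hv => h ⟨v, hv⟩)
  obtain ⟨z, w, hz, hw, hC⟩ := S.exists_char_at hQ
  obtain ⟨C, hCg, hCv, hCq, -⟩ := hC i hi
  have hF1 : ¬ (p : ℤ) ∣ F 1 := fun h => (hok v₀ hv₀).2 (by
    simpa using dvd_add (hcong v₀ 1) h)
  have hI : (p : ℤ) ∣ (Q.index : ℤ) := S.dvd_index hQt
  have key := sign_step hcomm Q hCg hF (U := fun v => (F v : ℂ)) (fun v hv => by
    obtain ⟨h1, h2⟩ := hok v hv
    refine ⟨F v, fun h => h2 (h ▸ dvd_zero _), S.isCoprime_card h2, rfl, ?_⟩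
    rcases h1 with h1 | h1
    · exact ⟨z v, (hz v).1, (hz v).2, by rw [hCv v, h1]⟩
    · exact ⟨-z v, (hz v).1.neg, by rw [norm_neg]; exact (hz v).2,
        by rw [hCv v, h1]; push_cast; ring⟩) w hw (a Q) hCq (F 1) (S.isCoprime_card hF1)
    (fun q => by simp only [hFQ q q.2])
  have hnd : ∀ x, (Q.index : ℤ) ∣ x - F 1 → ¬ (p : ℤ) ∣ x := fun x hx h => hF1 (by
    simpa using dvd_sub h (hI.trans hx))
  rcases key with h | h
  · exact ⟨a Q, ⟨Or.inl rfl, hnd _ h⟩, h⟩
  · have h' : (Q.index : ℤ) ∣ -a Q - F 1 := by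
      rw [show -a Q - F 1 = -(a Q + F 1) by ring]; exact dvd_neg.2 h
    exact ⟨-a Q, ⟨Or.inr rfl, hnd _ h'⟩, h'⟩

/-- **Products of the marks of two sources.** -/
theorem exists_prod [Fintype P] {i i' : MonoidAlgebra 𝕜 G}
    (hi : IsSource P (idemIn M C[P] c) i) (hi' : IsSource P (idemIn M C[P] c) i') :
    ∃ f : P → ℤ, IsGeneralizedCharacter P (fun v => (f v : ℂ)) ∧
      ∀ v, v ≠ 1 → f v = mult p P (idemIn M C[P] c) i (Subgroup.zpowers v) *
        mult p P (idemIn M C[P] c) i' (Subgroup.zpowers v) ∧ (p : ℤ) ∣ f v - 1 := by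
  have hcomm : ∀ a b : P, a * b = b * a := fun a b => Subtype.ext (S.hab a a.2 b b.2)
  set a := mult p P (idemIn M C[P] c) i with ha
  set a' := mult p P (idemIn M C[P] c) i' with ha'
  suffices hstep : ∀ Q : Subgroup P, Q ≠ ⊥ → ∀ F : P → ℤ,
      IsGeneralizedCharacter P (fun v => (F v : ℂ)) → (∀ q ∈ Q, F q = F 1) →
      (∀ v, v ∉ Q → F v = a (Q ⊔ Subgroup.zpowers v) * a' (Q ⊔ Subgroup.zpowers v) ∧
        (p : ℤ) ∣ F v - 1) →
      (∀ v w, (p : ℤ) ∣ F v - F w) →
      ∃ x, (x = a Q * a' Q ∧ (p : ℤ) ∣ x - 1) ∧ (Q.index : ℤ) ∣ x - F 1 by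
    obtain ⟨f, hf, hfv, -⟩ := exists_marks hcomm S.pair.1
      (fun X x => x = a X * a' X ∧ (p : ℤ) ∣ x - 1) hstep
    exact ⟨f, hf, hfv⟩
  intro Q hQ F hF hFQ hok hcong
  by_cases hQt : Q = ⊤
  · subst hQt
    refine ⟨a ⊤ * a' ⊤, ⟨rfl, ?_⟩, by simp⟩
    rw [ha, ha', S.mult_top hi, S.mult_top hi', mul_one, sub_self]
    exact dvd_zero _
  obtain ⟨v₀, hv₀⟩ : ∃ v, v ∉ Q := by
    by_contra h
    exact hQt ((Subgroup.eq_top_iff' Q).2 fun v => by_contra fun hv => h ⟨v, hv⟩)
  obtain ⟨z, w, hz, hw, hC⟩ := S.exists_char_at hQ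
  obtain ⟨C, hCg, hCv, hCq, -⟩ := hC i hi
  obtain ⟨C', hCg', hCv', hCq', -⟩ := hC i' hi'
  set d := F 1 - a Q * a' Q with hd
  set D : P → ℂ := fun v => (F v : ℂ) - C v * conj (C' v) with hD
  have hDg : IsGeneralizedCharacter P D := CfsgLib.Char.IsGeneralized.sub hF
    (CfsgLib.Char.IsGeneralized.mul hCg (CfsgLib.Char.IsGeneralized.conj hCg'))
  have hDv : ∀ v, D v = if v ∈ Q then (d : ℂ) else 0 := by
    intro v
    show (F v : ℂ) - C v * conj (C' v) = _
    split_ifs with hv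
    · rw [hFQ v hv, hCq ⟨v, hv⟩, hCq' ⟨v, hv⟩, map_mul, map_intCast, hd]
      have := Complex.mul_conj' (w ⟨v, hv⟩ : ℂ)
      rw [hw] at this
      push_cast at this ⊢
      linear_combination -((a Q : ℂ) * a' Q) * this
    · rw [(hok v hv).1, hCv v, hCv' v, map_mul, map_intCast]
      have := Complex.mul_conj' (z v)
      rw [(hz v).2] at this
      push_cast at this ⊢
      linear_combination -((a (Q ⊔ Subgroup.zpowers v) : ℂ) * a' (Q ⊔ Subgroup.zpowers v)) * this
  obtain ⟨m, hm⟩ := CfsgLib.Char.IsGeneralized.exists_classInner_eq_int hDg (isGen_const 1)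
  have hdiv : (Q.index : ℤ) ∣ a Q * a' Q - F 1 := by
    refine ⟨-m, ?_⟩
    rw [CfsgLib.Char.classInner_def] at hm
    simp only [hDv, Int.cast_one, map_one, mul_one] at hm
    rw [← sum_filter, sum_const, nsmul_eq_mul, inv_mul_eq_iff_eq_mul₀
      (Nat.cast_ne_zero.2 Nat.card_pos.ne'),
      show (univ.filter fun v : P => v ∈ Q).card = Nat.card Q by
        rw [← Fintype.card_subtype, ← Nat.card_eq_fintype_card],
      ← Subgroup.card_mul_index Q, Nat.cast_mul, mul_assoc] at hm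
    have h2 : (d : ℂ) = ((Q.index : ℤ) : ℂ) * (m : ℂ) := by
      have := mul_left_cancel₀ (Nat.cast_ne_zero.2 Nat.card_pos.ne') hm
      simpa using this
    have h3 : d = (Q.index : ℤ) * m := by exact_mod_cast h2
    linear_combination -h3
  refine ⟨a Q * a' Q, ⟨rfl, ?_⟩, hdiv⟩
  have h1 := (S.dvd_index hQt).trans hdiv
  have h2 := dvd_add (dvd_sub h1 (hcong v₀ 1)) (hok v₀ hv₀).2
  rw [show a Q * a' Q - 1 = a Q * a' Q - F 1 - (F v₀ - F 1) + (F v₀ - 1) by ring]
  exact h2

/-- The conjugate of an element of the defect group by a power of the generator. -/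
noncomputable def act (_ : FreeData (M := M) p B P c t n) (l : ℕ) (u : P) : P :=
  if h : t ^ l * (u : G) * (t ^ l)⁻¹ ∈ P then ⟨_, h⟩ else u

theorem coe_act (l : ℕ) (u : P) : ((S.act l u : P) : G) = t ^ l * (u : G) * (t ^ l)⁻¹ := by
  rw [act, dif_pos ((Subgroup.mem_normalizer_iff.1 (pow_mem S.t_mem l).1 u).1 u.2)]

theorem act_zero (u : P) : S.act 0 u = u := Subtype.ext (by simp [S.coe_act])

theorem act_add (i j : ℕ) (u : P) : S.act (i + j) u = S.act i (S.act j u) := Subtype.ext (by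
  simp only [S.coe_act]
  rw [pow_add]; group)

theorem act_period (u : P) : S.act n u = u := Subtype.ext (by
  rw [S.coe_act, ← Subgroup.mem_centralizer_iff.1 S.t_pow u u.2, mul_inv_cancel_right])

theorem act_ne_one {u : P} (hu : u ≠ 1) (l : ℕ) : S.act l u ≠ 1 := fun h => hu (Subtype.ext (by
  have h' := congrArg Subtype.val h
  rw [S.coe_act, OneMemClass.coe_one] at h'
  exact conj_eq_one_iff.1 h'))

/-- The conjugation as a homomorphism. -/
noncomputable def actHom (l : ℕ) : P →* P :=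
  MonoidHom.mk' (S.act l) fun a b => Subtype.ext (by
    simp only [Subgroup.coe_mul, S.coe_act]
    group)

theorem actHom_apply (l : ℕ) (u : P) : S.actHom l u = S.act l u := rfl

end FreeData

/-- Invariant local values forming generalized characters away from the identity. -/
structure FreeVals (p : ℕ) [Fact p.Prime] [CharP (Residue M) p] (P : Subgroup G) [Fintype P]
    (c : Set (IrrCharacter C[P])) (t : G) (D : IrrCharacter G → P → ℂ) : Prop where
  contrib : ∀ χ ψ : IrrCharacter G, ∀ u : P, u ≠ 1 →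
    contribR p χ ψ (u : G) (subBlk p P (idemIn M C[P] c) (u : G)) =
      D χ u * conj (D ψ u) * (Nat.card P : ℂ)⁻¹
  inv : ∀ (χ : IrrCharacter G) (u v : P), u ≠ 1 → (v : G) = t * (u : G) * t⁻¹ → D χ v = D χ u
  gen : ∀ χ, ∃ E, IsGeneralizedCharacter P E ∧ ∀ u : P, u ≠ 1 → E u = D χ u

namespace FreeData

variable (S : FreeData (M := M) p B P c t n) [Fintype P]
include S

set_option maxHeartbeats 800000 in
theorem exists_freeVals : ∃ D, FreeVals (M := M) p P c t D := by
  have hM := S.hM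
  have hP := S.pair
  have hp : p.Prime := Fact.out
  have hcomm : ∀ a b : P, a * b = b * a := fun a b => Subtype.ext (S.hab a a.2 b b.2)
  set e := idemIn M C[P] c
  have hloc : ∀ u : P, u ≠ 1 →
      ∃ v δ, LocalVals (M := M) p P (u : G) (subBlk p P e (u : G)) v δ := fun u hu =>
    exists_localVals hM S.hB S.hmax S.hab S.hcB u.2
      (S.hfree (Subgroup.zpowers_le.2 u.2) (Subgroup.zpowers_ne_bot.2
        fun h => hu (Subtype.ext h)))
  choose! V δ hV using hloc
  set a : MonoidAlgebra 𝕜 G → P → ℤ := fun i v => mult p P e i (Subgroup.zpowers v) with ha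
  have hPE : ∀ u : P, PElt p (u : G) 1 := fun u =>
    ⟨mem_pSet.1 (mem_pSet_of_mem hP u.2), by rw [orderOf_one]; exact hp.not_dvd_one,
      Commute.one_right _⟩
  have hfix : ∀ u : P, Z[(u : G)] ⊔ Z[(1 : G)] ≤ P := fun u =>
    sup_le (Subgroup.zpowers_le.2 u.2) (Subgroup.zpowers_le.2 P.one_mem)
  have hval : ∀ i, IsSource P e i → ∀ χ (u : P), u ≠ 1 →
      val χ (u : G) 1 (br Z[(u : G)] i) = (a i u : ℂ) * V u χ := by
    intro i hi χ u hu
    have hZ : Z[(u : G)] ≤ P := Subgroup.zpowers_le.2 u.2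
    have hE := subPair_zpowers (M := M) hP u.2
    obtain ⟨r, hr, hrb⟩ := (hV u hu).rank (br Z[(u : G)] i)
      (br_idem (hP.1.to_le hZ) hi.prim.2.2.1 (hi.prim.1.mono hZ)) (suppIn_br i)
      (by rw [← hE]; exact hi.mul_sub hP hZ)
    have hrk : rk p P e i Z[(u : G)] = r :=
      rk_eq (hV u hu).pos (by rw [hE]; exact (hV u hu).deg) hrb
    rw [hr χ, ha]
    simp only [mult_zpowers, hrk, Int.cast_natCast]
  -- the translates
  obtain ⟨χ₁, hχ₁, h₁⟩ := exists_height_zero hM S.hB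
  have hV0 : ∀ u : P, u ≠ 1 → V u χ₁ ≠ 0 := fun u hu h => by
    have := contribR_ne_zero hM S.hB hχ₁ h₁ S.hmax u.2
    rw [(hV u hu).contrib, h, zero_mul, zero_mul] at this
    exact this rfl
  have htrans : ∀ i, IsSource P e i → ∀ g ∈ stab P e, ∀ u v : P, u ≠ 1 → v ≠ 1 →
      (v : G) = g * u * g⁻¹ → (∀ χ, (a (cj 𝕜 g i) v : ℂ) * V v χ = (a i u : ℂ) * V u χ) ∧
        a (cj 𝕜 g i) v = a i u := by
    intro i hi g hg u v hu hv hvu
    have hZ : Z[(u : G)] ≤ P := Subgroup.zpowers_le.2 u.2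
    have h1 : ∀ χ, (a (cj 𝕜 g i) v : ℂ) * V v χ = (a i u : ℂ) * V u χ := fun χ => by
      rw [← hval i hi χ u hu, ← hval _ (hi.conj hg) χ v hv, hvu,
        show Z[g * (u : G) * g⁻¹] = Z[(u : G)].map (MulAut.conj g).toMonoidHom by
          rw [MonoidHom.map_zpowers]; rfl, ← cj_br]
      exact val_cj hM χ (hPE u) g (by rw [mul_one, mul_inv_cancel])
        (br_idem (hP.1.to_le hZ) hi.prim.2.2.1 (hi.prim.1.mono hZ))
        (fixBy_br (hi.prim.1.mono (hfix u)) ((sup_le_cz (hPE u)).trans (centralizer_le_normalizer _)))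
    refine ⟨h1, ?_⟩
    have h2 : (‖V v χ₁‖ : ℂ) ^ 2 = (‖V u χ₁‖ : ℂ) ^ 2 := by
      have h3 := contribR_conj hM χ₁ χ₁ (mem_pSet_of_mem hP u.2)
        (PLE.isPair (subBlk_ple hP u.2) hP).2 g
      rw [AbelianTwist.subBlk_conj_stab hP hg u.2, ← hvu, (hV v hv).contrib, (hV u hu).contrib] at h3
      rw [← Complex.mul_conj', ← Complex.mul_conj']
      exact mul_right_cancel₀ (inv_ne_zero (Nat.cast_ne_zero.2 Nat.card_pos.ne')) h3
    have h4 : ‖V v χ₁‖ = ‖V u χ₁‖ := by
      have : ‖V v χ₁‖ ^ 2 = ‖V u χ₁‖ ^ 2 := by exact_mod_cast h2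
      exact (sq_eq_sq₀ (norm_nonneg _) (norm_nonneg _)).1 this
    have h5 := congrArg norm (h1 χ₁)
    rw [norm_mul, norm_mul, h4] at h5
    have h6 := mul_right_cancel₀ (norm_ne_zero_iff.2 (hV0 u hu)) h5
    simp only [ha, mult, Int.cast_natCast, Complex.norm_natCast] at h6 ⊢
    exact_mod_cast h6
  obtain ⟨i, hi⟩ := exists_source hP
  obtain ⟨f, hf, hfv, hfc⟩ := S.exists_signed hi
  have hcop : ∀ v : P, v ≠ 1 → ¬ (p : ℤ) ∣ a i v := fun v hv h => by
    obtain ⟨h1 | h1, h2⟩ := hfv v hv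
    · exact h2 (h1.symm ▸ h)
    · exact h2 (h1.symm ▸ dvd_neg.2 h)
  have hcong : ∀ g ∈ stab P e, ∀ v : P, v ≠ 1 → (p : ℤ) ∣ a (cj 𝕜 g i) v - a i v := by
    intro g hg v hv
    obtain ⟨f₁, -, h1⟩ := S.exists_prod hi (hi.conj hg)
    obtain ⟨f₂, -, h2⟩ := S.exists_prod hi hi
    obtain ⟨e1, d1⟩ := h1 v hv
    obtain ⟨e2, d2⟩ := h2 v hv
    rw [e1] at d1
    rw [e2] at d2
    show (p : ℤ) ∣ mult p P e (cj 𝕜 g i) _ - mult p P e i _
    rw [show ∀ x y : ℤ, y - x = x * (x * y - 1) - y * (x * x - 1) from fun x y => by ring]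
    exact dvd_sub (d1.mul_left _) (d2.mul_left _)
  -- invariance of the values
  have hVinv : ∀ u v : P, u ≠ 1 → v ≠ 1 → (v : G) = t * u * t⁻¹ → ∀ χ, V v χ = V u χ := by
    intro u v hu hv hvu χ
    obtain ⟨h1, h2⟩ := htrans i hi t S.t_mem u v hu hv hvu
    have h3 := h1 χ
    rw [h2] at h3
    exact mul_left_cancel₀ (Int.cast_ne_zero.2 fun h => hcop u hu (by rw [h]; exact dvd_zero _)) h3
  -- the signs
  set s : P → ℤ := fun v => if f v = a i v then 1 else -1 with hs
  have hss : ∀ v, s v * s v = 1 := fun v => by simp only [hs]; split_ifs <;> rfl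
  have hsf : ∀ v, v ≠ 1 → f v = s v * a i v := fun v hv => by
    simp only [hs]
    split_ifs with h
    · rw [one_mul, h]
    · rw [neg_one_mul]; exact (hfv v hv).1.resolve_left h
  have hfi : ∀ v : P, v ∉ (⊥ : Subgroup P) → ∃ x : ℤ, x ≠ 0 ∧ IsCoprime x (Nat.card P : ℤ) ∧
      (f v : ℂ) = x := fun v hv =>
    ⟨f v, fun h => (hfv v (fun e => hv (Subgroup.mem_bot.2 e))).2 (h ▸ dvd_zero _),
      S.isCoprime_card (hfv v (fun e => hv (Subgroup.mem_bot.2 e))).2, rfl⟩
  have hoff : ∀ χ, OffGen (⊥ : Subgroup P) (fun v => (s v : ℂ) * V v χ) := by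
    intro χ
    obtain ⟨b, hb, hbred, hbT⟩ := exists_lift (M := M) P hi.prim.2.2.1 hi.prim.1
    have hG : IsGeneralizedCharacter P (fun v : P => sval χ (v : G) b) :=
      CfsgLib.Char.IsCharacter.isGeneralized (isCharacter_sval χ hb hbT)
    refine (div_int hG hf hfi (fun v hv => ?_) (fun v hv => ?_)).1
    · exact isIntegral_algebraMap.mul ((hV v fun e => hv (Subgroup.mem_bot.2 e)).integral χ)
    · have hv1 : v ≠ 1 := fun e => hv (Subgroup.mem_bot.2 e)
      have hZ : Z[(v : G)] ≤ P := Subgroup.zpowers_le.2 v.2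
      have h := hval i hi χ v hv1
      rw [val_eq hM χ (hPE v) hb (hbT _ v.2) (hbT _ P.one_mem)
        (br_idem (hP.1.to_le hZ) hi.prim.2.2.1 (hi.prim.1.mono hZ))
        (fixBy_br (hi.prim.1.mono (hfix v)) ((sup_le_cz (hPE v)).trans (centralizer_le_normalizer _)))
        (by rw [hbred, br_br_of_le le_rfl]), one_mul] at h
      have hsC : (s v : ℂ) * s v = 1 := by exact_mod_cast hss v
      show (s v : ℂ) * V v χ * (f v : ℂ) = sval χ (v : G) b
      rw [h, hsf v hv1]
      push_cast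
      linear_combination (V v χ * (a i v : ℂ)) * hsC
  -- invariant signs
  obtain ⟨σ, hσsq, hσinv, hσgen⟩ : ∃ σ : P → ℤ, (∀ u, σ u * σ u = 1) ∧
      (∀ u : P, u ≠ 1 → σ (S.act 1 u) = σ u) ∧
      ∀ χ, OffGen (⊥ : Subgroup P) (fun v => (σ v : ℂ) * V v χ) := by
    by_cases hp2 : p = 2
    · set τ : ℕ → P → ℤ := fun l v => s v * s (S.act l v)
      have hτ : ∀ l, OffGen (⊥ : Subgroup P) (fun v => (τ l v : ℂ)) := by
        intro l
        have hgl : (t ^ l)⁻¹ ∈ stab P e := inv_mem (pow_mem S.t_mem l)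
        obtain ⟨f₂, hf₂, hf₂v⟩ := S.exists_prod hi (hi.conj hgl)
        refine (div_int (G := fun v => (f v : ℂ) * (f (S.act l v) : ℂ))
          (CfsgLib.Char.IsGeneralized.mul hf (CfsgLib.Char.IsGeneralized.comp hf (S.actHom l)))
          hf₂ (fun v hv => ?_) (fun v _ => isIntegral_algebraMap) (fun v hv => ?_)).1
        · have h2 := (hf₂v v fun e => hv (Subgroup.mem_bot.2 e)).2
          have hnd : ¬ (p : ℤ) ∣ f₂ v := fun h => hp.not_dvd_one (by
            have h1 : (p : ℤ) ∣ 1 := by simpa using dvd_sub h h2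
            exact_mod_cast h1)
          exact ⟨f₂ v, fun h => hnd (h ▸ dvd_zero _), S.isCoprime_card hnd, rfl⟩
        · have hv1 : v ≠ 1 := fun e => hv (Subgroup.mem_bot.2 e)
          have hw := (htrans i hi _ hgl (S.act l v) v (S.act_ne_one hv1 l) hv1
            (by rw [S.coe_act]; group)).2
          show (τ l v : ℂ) * (f₂ v : ℂ) = (f v : ℂ) * (f (S.act l v) : ℂ)
          rw [(hf₂v v hv1).1, hsf v hv1, hsf _ (S.act_ne_one hv1 l)]
          show _ = _
          rw [show mult p P e i (Subgroup.zpowers v) = a i v from rfl,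
            show mult p P e (cj 𝕜 (t ^ l)⁻¹ i) (Subgroup.zpowers v) = a (cj 𝕜 (t ^ l)⁻¹ i) v from rfl,
            hw]
          simp only [τ]
          push_cast
          ring
      have hprod : ∀ m, OffGen (⊥ : Subgroup P)
          (fun v => ((∏ l ∈ range m, τ (l + 1) v : ℤ) : ℂ)) := by
        intro m
        induction m with
        | zero =>
          refine OffGen.congr (OffGen.of_gen _ (isGen_const 1)) fun v _ => ?_
          simp
        | succ m ih =>
          refine OffGen.congr (OffGen.mul ih (hτ (m + 1))) fun v _ => ?_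
          rw [prod_range_succ, Int.cast_mul]
          simp [τ]
      obtain ⟨k, hk⟩ : ∃ k, n = 2 * k + 1 := by
        have h2 : ¬ 2 ∣ n := hp2 ▸ S.n_reg
        exact ⟨n / 2, by omega⟩
      have hkey : ∀ v, ∏ l ∈ range n, s (S.act l v) = s v * ∏ l ∈ range (2 * k), τ (l + 1) v := by
        intro v
        conv_lhs => arg 1; rw [hk]
        rw [prod_range_succ', S.act_zero, mul_comm]
        congr 1
        simp only [τ]
        rw [prod_mul_distrib, prod_const, card_range, pow_mul, sq, hss, one_pow, one_mul]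
      refine ⟨fun v => ∏ l ∈ range n, s (S.act l v), fun u => ?_, fun u _ => ?_, fun χ => ?_⟩
      · rw [← prod_mul_distrib]
        exact prod_eq_one fun l _ => hss _
      · simp only [← S.act_add]
        have hA := prod_range_succ' (fun l => s (S.act l u)) n
        rw [prod_range_succ, S.act_period, S.act_zero] at hA
        exact (mul_right_cancel₀ (fun h => by simpa [h] using hss u) hA).symm
      · refine OffGen.congr (OffGen.mul (hoff χ) (hprod (2 * k))) fun v _ => ?_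
        show _ = ((∏ l ∈ range n, s (S.act l v) : ℤ) : ℂ) * V v χ
        rw [hkey v, Int.cast_mul]
        ring
    · refine ⟨s, hss, fun u hu => ?_, hoff⟩
      have hv := S.act_ne_one hu 1
      have hco : ((S.act 1 u : P) : G) = t * u * t⁻¹ := by rw [S.coe_act, pow_one]
      have h1 := hcong t S.t_mem _ hv
      rw [(htrans i hi t S.t_mem u _ hu hv hco).2] at h1
      have h2 := hfc (S.act 1 u) u
      rw [hsf _ hv, hsf u hu] at h2
      have h3 : (p : ℤ) ∣ (s (S.act 1 u) - s u) * a i u := by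
        rw [show (s (S.act 1 u) - s u) * a i u = s (S.act 1 u) * a i (S.act 1 u) - s u * a i u +
          s (S.act 1 u) * (a i u - a i (S.act 1 u)) by ring]
        exact dvd_add h2 (h1.mul_left _)
      have hp3 : (3 : ℤ) ≤ p := by
        have := hp.two_le
        omega
      rcases ((Nat.prime_iff_prime_int.1 hp).dvd_mul).1 h3 with h | h
      · rcases mul_self_eq_one_iff.1 (hss (S.act 1 u)) with e1 | e1 <;>
          rcases mul_self_eq_one_iff.1 (hss u) with e2 | e2 <;> rw [e1, e2] at h ⊢ <;>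
          norm_num at h
        all_goals (have := Int.le_of_dvd (by norm_num) h; omega)
      · exact absurd h (hcop u hu)
  refine ⟨fun χ u => (σ u : ℂ) * V u χ, fun χ ψ u hu => ?_, fun χ u v hu hvu => ?_, fun χ => ?_⟩
  · rw [(hV u hu).contrib, map_mul, map_intCast]
    have : (σ u : ℂ) * σ u = 1 := by exact_mod_cast hσsq u
    linear_combination -(V u χ * conj (V u ψ) * (Nat.card P : ℂ)⁻¹) * this
  · have hv : v ≠ 1 := fun h => hu (Subtype.ext (by
      rw [h, OneMemClass.coe_one] at hvu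
      exact conj_eq_one_iff.1 hvu.symm))
    have hva : v = S.act 1 u := Subtype.ext (by rw [S.coe_act, pow_one, hvu])
    rw [hVinv u v hu hv hvu χ, hva, hσinv u hu]
  · obtain ⟨E, hE, hEy⟩ := (hσgen χ).approx
    refine ⟨_, exists_gen_ext hcomm (hσgen χ) hE hEy, fun u hu => ?_⟩
    exact if_neg fun h => hu (Subgroup.mem_bot.1 h)

end FreeData

end CfsgLib.FreeInertial
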