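import Cfsg.Agent.BlocksB.FreeInertial.Local
import Cfsg.Agent.BlocksB.FreeInertial.Rank
import Cfsg.Agent.BrauerPairs.MaxCriterion

/-!
# Source idempotents of a block with abelian defect group and free inertial action

The multiplicity of the local block in the truncation of a source idempotent at a subgroup of the
defect group is, up to roots of unity, the value of a character of the defect group.
-/

set_option autoImplicit false
set_option linter.style.haveILetI false
set_option linter.unusedSectionVars false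

namespace CfsgLib.FreeInertial

open Cfsg Finset CfsgLib.Block CfsgLib.Block.Chr CfsgLib.BrauerPairs CfsgLib.BlockStar
  CfsgLib.BlockB CfsgLib.SL2C
open scoped ComplexConjugate
open scoped Classical

universe u

variable {M : Ideal AlgInt} [M.IsPrime] {p : ℕ} [Fact p.Prime] [CharP (Residue M) p]
  {G : Type u} [Group G] [Fintype G]

local notation "𝕜" => Residue M
local notation "Z[" x "]" => Subgroup.zpowers x
local notation "C[" Q "]" => Subgroup.centralizer (SetLike.coe Q)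
local notation "N[" Q "]" => Subgroup.normalizer (SetLike.coe Q)

/-- An element generating the inertial group of an abelian defect group acting freely. -/
structure FreeData (p : ℕ) [Fact p.Prime] [CharP (Residue M) p] (B : Set (IrrCharacter G))
    (P : Subgroup G) (c : Set (IrrCharacter C[P])) (t : G) (n : ℕ) : Prop where
  hM : IsPModular p M
  hB : IsPBlock M B
  hcB : IsPBlock M c
  hmax : IsMaxPair p (idem M B) (P, idemIn M C[P] c)
  hab : ∀ x ∈ P, ∀ y ∈ P, x * y = y * x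
  hP1 : P ≠ ⊥
  n_pos : 0 < n
  n_reg : ¬ p ∣ n
  n_eq : n = (C[P] : Subgroup G).relIndex (stab P (idemIn M C[P] c))
  t_mem : t ∈ stab P (idemIn M C[P] c)
  t_pow : t ^ n ∈ C[P]
  free : ∀ l : ℕ, ∀ u ∈ P, u ≠ 1 → t ^ l * u * (t ^ l)⁻¹ = u → n ∣ l
  gen : ∀ g ∈ stab P (idemIn M C[P] c), ∃ l : ℕ, ∃ d ∈ C[P], g = t ^ l * d

namespace FreeData

variable {B : Set (IrrCharacter G)} {P : Subgroup G} {c : Set (IrrCharacter C[P])} {t : G} {n : ℕ}
  (S : FreeData (M := M) p B P c t n)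
include S

theorem pair : IsPair p (P, idemIn M C[P] c) := S.hmax.1.1

theorem free_mem {u : G} (hu : u ∈ P) (hu1 : u ≠ 1) {g : G}
    (hg : g ∈ stab P (idemIn M C[P] c)) (hgu : g * u = u * g) : g ∈ (C[P] : Subgroup G) := by
  obtain ⟨l, d, hd, rfl⟩ := S.gen g hg
  have hdu : d * u = u * d := (Subgroup.mem_centralizer_iff.1 hd u hu).symm
  obtain ⟨j, rfl⟩ := S.free l u hu hu1 (by
    rw [mul_inv_eq_iff_eq_mul]
    refine mul_right_cancel (b := d) ?_
    rw [mul_assoc (t ^ l), ← hdu, ← mul_assoc, hgu, mul_assoc])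
  rw [pow_mul]
  exact mul_mem (pow_mem S.t_pow j) hd

theorem hfree {Q : Subgroup G} (hQ : Q ≤ P) (hQ1 : Q ≠ ⊥) :
    ∀ g ∈ stab P (idemIn M C[P] c), g ∈ (C[Q] : Subgroup G) → g ∈ (C[P] : Subgroup G) := by
  obtain ⟨u, hu, hu1⟩ := (Subgroup.bot_or_exists_ne_one Q).resolve_left hQ1
  exact fun g hg hgQ =>
    S.free_mem (hQ hu) hu1 hg ((Subgroup.mem_centralizer_iff.1 hgQ u hu).symm)

end FreeData

/-- The block of the pair below the maximal pair on a subgroup. -/
noncomputable def subPair (p : ℕ) (P : Subgroup G) (e : MonoidAlgebra 𝕜 G) (Q : Subgroup G) :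
    MonoidAlgebra 𝕜 G :=
  if h : ∃ f, PLE p (Q, f) (P, e) then h.choose else 0

theorem subPair_ple {P : Subgroup G} {e : MonoidAlgebra 𝕜 G} (hP : IsPair p (P, e))
    {Q : Subgroup G} (hQ : Q ≤ P) : PLE p (Q, subPair p P e Q) (P, e) := by
  obtain ⟨f, hf, -⟩ := existsUnique_ple hP hQ
  have h : ∃ f, PLE p (Q, f) (P, e) := ⟨f, hf⟩
  rw [subPair, dif_pos h]
  exact h.choose_spec

theorem subPair_zpowers {P : Subgroup G} {e : MonoidAlgebra 𝕜 G} (hP : IsPair p (P, e)) {u : G}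
    (hu : u ∈ P) : subPair p P e Z[u] = subBlk p P e u :=
  ple_unique hP (subPair_ple hP (Subgroup.zpowers_le.2 hu)) (subBlk_ple hP hu)

/-- A source idempotent. -/
structure IsSource (P : Subgroup G) (e i : MonoidAlgebra 𝕜 G) : Prop where
  prim : IsPrimFix P i
  ne : br P i * e ≠ 0

theorem exists_source {P : Subgroup G} {e : MonoidAlgebra 𝕜 G} (hP : IsPair p (P, e)) :
    ∃ i, IsSource P e i := by
  obtain ⟨N, j, hj, -, hjs⟩ := exists_decomp 𝕜 (i := (1 : fixAlg 𝕜 P)) (mul_one 1)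
  by_contra hno
  have h0 : ∀ l, br P (j l : MonoidAlgebra 𝕜 G) * e = 0 := fun l => by
    by_contra h
    exact hno ⟨_, isPrimFix_of_isPrim (hj l).1, h⟩
  have h1 : br P (1 : MonoidAlgebra 𝕜 G) * e = 0 := by
    rw [show (1 : MonoidAlgebra 𝕜 G) = ((∑ l, j l : fixAlg 𝕜 P) : MonoidAlgebra 𝕜 G) by
      rw [hjs]; rfl, AddSubmonoidClass.coe_finsetSum, map_sum, sum_mul]
    exact sum_eq_zero fun l _ => h0 l
  rw [br_one, one_mul] at h1
  exact hP.2.ne_zero h1

theorem IsSource.conj {P : Subgroup G} {e i : MonoidAlgebra 𝕜 G} (h : IsSource P e i) {g : G}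
    (hg : g ∈ stab P e) : IsSource P e (cj 𝕜 g i) := by
  have key : ∀ {y : G}, y ∈ stab P e → ∀ a : MonoidAlgebra 𝕜 G, FixBy P a →
      FixBy P (cj 𝕜 y a) := by
    intro y hy a ha x hx
    have hm : y⁻¹ * x * y ∈ P := by
      have := (Subgroup.mem_normalizer_iff.1 (inv_mem hy.1) x).1 hx
      rwa [inv_inv] at this
    rw [← cj_mul, show x * y = y * (y⁻¹ * x * y) by group, cj_mul, ha _ hm]
  refine ⟨⟨key hg i h.prim.1, (map_ne_zero_iff _ (cj 𝕜 g).injective).2 h.prim.2.1,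
    by rw [← map_mul, h.prim.2.2.1], fun f hf hff h1 h2 => ?_⟩, ?_⟩
  · obtain ⟨f, rfl⟩ : ∃ f', cj 𝕜 g f' = f := ⟨cj 𝕜 g⁻¹ f, cj_cj_inv g f⟩
    have hf' : FixBy P f := by
      have := key (inv_mem hg) _ hf
      rwa [cj_inv_cj] at this
    rw [← map_mul] at hff h1 h2
    rcases h.prim.2.2.2 f hf' ((cj 𝕜 g).injective hff) ((cj 𝕜 g).injective h1)
      ((cj 𝕜 g).injective h2) with rfl | rfl
    · exact Or.inl (map_zero _)
    · exact Or.inr rfl
  · rw [← cj_br_of_mem hg.1, ← hg.2, ← map_mul]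
    exact (map_ne_zero_iff _ (cj 𝕜 g).injective).2 h.ne

theorem IsSource.mul_sub {P : Subgroup G} {e i : MonoidAlgebra 𝕜 G} (hP : IsPair p (P, e))
    (h : IsSource P e i) {R : Subgroup G} (hR : R ≤ P) :
    br R i * subPair p P e R = br R i :=
  br_mul_eq_of_ple (S := ⊥) hP.1
    (by rw [Subgroup.card_bot]; exact (Fact.out : p.Prime).not_dvd_one) bot_le
    (by rw [sup_bot_eq]; exact h.prim) hP h.ne (subPair_ple hP hR)

/-- The truncation of a source at the defect group is primitive. -/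
theorem IsSource.br_isPrim {P : Subgroup G} {e i : MonoidAlgebra 𝕜 G} (hPp : IsPGroup p P)
    (h : IsSource P e i) :
    br P i * br P i = br P i ∧ ∀ f, SuppIn C[P] f → f * f = f → br P i * f = f →
      f * br P i = f → f = 0 ∨ f = br P i := by
  have hbi : br P i * br P i = br P i := br_idem hPp h.prim.2.2.1 h.prim.1
  refine ⟨hbi, fun f hs hff h1 h2 => ?_⟩
  have hf : FixBy P f := fixBy_of_suppIn_centralizer hs
  have hbr : br P (i * f * i) = f := by
    rw [br_mul hPp (fixBy_mul h.prim.1 hf) h.prim.1, br_mul hPp h.prim.1 hf, br_eq_self hs, h1, h2]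
  rcases h.prim.nilpotent_or_inv (fixBy_iai h.prim.1 hf)
    (by rw [← mul_assoc, ← mul_assoc, h.prim.2.2.1]) (by rw [mul_assoc, h.prim.2.2.1]) with
    hn | ⟨b, hb, -, -, hab⟩
  · left
    have hn' := br_idem_of hPp (fixBy_iai h.prim.1 hf) hn
    rw [hbr] at hn'
    exact eq_zero_of_idem_nilpotent hff hn'
  · right
    have h3 := br_mul hPp (fixBy_iai h.prim.1 hf) hb
    rw [hab, hbr] at h3
    calc f = f * br P i := h2.symm
      _ = f * (f * br P b) := by rw [← h3]
      _ = br P i := by rw [← mul_assoc, hff, ← h3]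

/-- The multiplicity of the local block in the truncation of an idempotent. -/
noncomputable def rk (p : ℕ) (P : Subgroup G) (e i : MonoidAlgebra 𝕜 G) (R : Subgroup G) : ℕ :=
  if h : ∃ r : ℕ, (r : ℂ) ^ 2 * ((Nat.card P : ℂ) * ((Nat.card C[R] : ℂ) *
      beta (subPair p P e R))) = ((Nat.card C[R] : ℂ) * beta (br R i)) ^ 2
  then h.choose else 0

theorem rk_eq {P : Subgroup G} {e i : MonoidAlgebra 𝕜 G} {R : Subgroup G} {r δ : ℕ} (hδ : 0 < δ)
    (h1 : (δ : ℂ) ^ 2 * Nat.card P = (Nat.card C[R] : ℂ) * beta (subPair p P e R))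
    (h2 : (r : ℂ) * δ * Nat.card P = (Nat.card C[R] : ℂ) * beta (br R i)) :
    rk p P e i R = r := by
  have hex : ∃ r : ℕ, (r : ℂ) ^ 2 * ((Nat.card P : ℂ) * ((Nat.card C[R] : ℂ) *
      beta (subPair p P e R))) = ((Nat.card C[R] : ℂ) * beta (br R i)) ^ 2 :=
    ⟨r, by rw [← h1, ← h2]; ring⟩
  rw [rk, dif_pos hex]
  have h := hex.choose_spec
  obtain ⟨r', hr'⟩ : ∃ r', hex.choose = r' := ⟨_, rfl⟩
  rw [hr'] at h ⊢
  rw [← h1, ← h2] at h
  have hne : ((Nat.card P : ℂ) * ((δ : ℂ) ^ 2 * Nat.card P)) ≠ 0 :=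
    mul_ne_zero (Nat.cast_ne_zero.2 Nat.card_pos.ne')
      (mul_ne_zero (pow_ne_zero _ (Nat.cast_ne_zero.2 hδ.ne')) (Nat.cast_ne_zero.2 Nat.card_pos.ne'))
  have h3 : (r' : ℂ) ^ 2 = (r : ℂ) ^ 2 :=
    mul_right_cancel₀ hne (by rw [h]; ring)
  exact Nat.pow_left_injective two_ne_zero (by exact_mod_cast h3)

theorem isCharacter_comp {H K : Type u} [Group H] [Group K] {χ : K → ℂ} (h : IsCharacter K χ)
    (φ : H →* K) : IsCharacter H fun x => χ (φ x) := by
  obtain ⟨n, ρ, hρ⟩ := h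
  exact ⟨n, ρ.comp φ, funext fun x => congrFun hρ (φ x)⟩

/-- The characters of a nilpotent block with abelian defect group agree on the regular
elements. -/
theorem reg_eq_of_abelian {B : Set (IrrCharacter G)} {P : Subgroup G} {e : MonoidAlgebra 𝕜 G}
    (hM : IsPModular p M) (hB : IsPBlock M B) (hnil : IsNil p (idem M B))
    (hmax : IsMaxPair p (idem M B) (P, e)) (hab : ∀ x ∈ P, ∀ y ∈ P, x * y = y * x)
    {χ₀ : IrrCharacter G} (hχ₀ : χ₀ ∈ B) (h0 : blockHeight p B (χ₀ : G → ℂ) = 0) :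
    ∀ ξ ∈ B, ∀ s : G, ¬ p ∣ orderOf s → (ξ : G → ℂ) s = (χ₀ : G → ℂ) s := by
  haveI := Fintype.ofFinite P
  obtain ⟨Φ, hreg, -⟩ := exists_characters hM hB hnil hmax hχ₀ h0
  intro ξ hξ s hs
  obtain ⟨ζ, hζ⟩ := Φ.surjective ⟨ξ, hξ⟩
  have hz : charDegree (ζ : P → ℂ) = 1 := by
    have h2 := CfsgLib.Char.IsIrrCharacter.apply_one_eq_one ζ.2 fun a b =>
      Subtype.ext (hab a a.2 b b.2)
    rw [(irr_one ζ).1] at h2
    exact_mod_cast h2
  have h1 := hreg ζ s hs
  rwa [hζ, hz, Nat.cast_one, one_mul] at h1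

variable {B : Set (IrrCharacter G)} {P : Subgroup G} {c : Set (IrrCharacter C[P])} {t : G} {n : ℕ}

theorem FreeData.exists_local_char (S : FreeData (M := M) p B P c t n) {Q : Subgroup G}
    (hQ : Q ≤ P) (hQ1 : Q ≠ ⊥) :
    ∃ (z : P → ℂ) (w : Q →* ℂˣ), (∀ v, IsIntegral ℤ (z v) ∧ ‖z v‖ = 1) ∧ (∀ q, ‖(w q : ℂ)‖ = 1) ∧
      ∀ i, IsSource P (idemIn M C[P] c) i → ∃ C : P → ℂ, IsCharacter P C ∧
        (∀ v : P, C v = (rk p P (idemIn M C[P] c) i (Q ⊔ Z[(v : G)]) : ℂ) * z v) ∧
        (∀ q : Q, C ⟨q, hQ q.2⟩ = (rk p P (idemIn M C[P] c) i Q : ℂ) * (w q : ℂ)) ∧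
        (Q = P → C 1 = 1) := by
  have hM := S.hM
  have hab := S.hab
  have hP := S.pair
  set e := idemIn M C[P] c
  set L := C[Q] with hLdef
  have hPC : P ≤ L := fun x hx =>
    Subgroup.mem_centralizer_iff.mpr fun y hy => hab y (hQ hy) x hx
  have hCC : (C[P] : Subgroup G) ≤ L := Subgroup.centralizer_le (SetLike.coe_subset_coe.mpr hQ)
  obtain ⟨f, hf⟩ := Inertial.exists_inducedIn hM hP.1 S.hcB hab hQ
  haveI := Fintype.ofFinite L
  letI := irrFintype (G := L)
  obtain ⟨e', hee', hP', hmax'⟩ := Inertial.local_maxPair hM S.hB hP S.hmax hab hQ hf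
  have hfB : IsPBlock M f := hf.2.1
  have hnil : IsNil p (idem M f) := ((isNilpotentBlock_iff hM).1
    (Inertial.isNilpotentBlock_local hM S.hB hP S.hmax hab hQ (S.hfree hQ hQ1) hf)).2
  have heQ : emb L (idem M f) = subPair p P e Q := by
    rw [← idemIn_eq]
    exact ple_unique hP (Inertial.ple_of_inducedIn hM hP hab hQ hf) (subPair_ple hP hQ)
  set P' := P.subgroupOf L with hP'def
  have hmapP : P'.map L.subtype = P := Subgroup.map_subgroupOf_eq_of_le hPC
  have hab' : ∀ x ∈ P', ∀ y ∈ P', x * y = y * x := fun x hx y hy =>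
    Subtype.ext (hab _ hx _ hy)
  have hcardP : Nat.card P' = Nat.card P :=
    Nat.card_congr (Subgroup.subgroupOfEquivOfLe hPC).toEquiv
  obtain ⟨χ₀, hχ₀, h0⟩ := exists_height_zero hM hfB
  have hreg := reg_eq_of_abelian hM hfB hnil hmax' hab' hχ₀ h0
  obtain ⟨c', hc', hc'e⟩ : ∃ c' : Set (IrrCharacter C[P']),
      IsPBlock M c' ∧ idemIn M C[P'] c' = e' := exists_idemIn_eq hM hP'.2
  subst hc'e
  have hee : emb L (idemIn M C[P'] c') = e := hee'
  have hfree' : ∀ u : L, ∀ s ∈ stab P' (idemIn M C[P'] c'), s ∈ (C[Z[u]] : Subgroup L) →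
      s ∈ (C[P'] : Subgroup L) := by
    intro u s hs _
    have h1 : (s : G) ∈ (N[P] : Subgroup G) :=
      hmapP ▸ (Subgroup.le_normalizer_map _) ⟨s, hs.1, rfl⟩
    have h2 : cj 𝕜 (s : G) e = e := by rw [← hee, cj_emb, hs.2]
    have h3 := S.hfree hQ hQ1 (s : G) ⟨h1, h2⟩ s.2
    exact Subgroup.mem_centralizer_iff.mpr fun y hy =>
      Subtype.ext (Subgroup.mem_centralizer_iff.mp h3 (y : G) hy)
  let ι : P →* P' := (Subgroup.subgroupOfEquivOfLe hPC).symm.toMonoidHom
  have hι : ∀ v : P, (((ι v : P') : L) : G) = v := fun v => rfl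
  choose V δ hV using fun v : P =>
    exists_localVals hM hfB hmax' hab' hc' (ι v).2 (hfree' ((ι v : P') : L))
  have hznorm : ∀ v : P, ‖V v χ₀‖ = 1 := by
    intro v
    have h1 := aFun_eq_one hM hfB hnil hmax' hχ₀ h0 (ι v).2
    rw [aFun, inf_eq_left.2 (fun y hy => mem_cz.2 (hab' y hy _ (ι v).2)), (hV v).contrib,
      mul_comm (Nat.card P' : ℂ), mul_assoc,
      inv_mul_cancel₀ (Nat.cast_ne_zero.2 Nat.card_pos.ne'), mul_one, Complex.mul_conj'] at h1
    have h2 : ‖V v χ₀‖ ^ 2 = 1 := by exact_mod_cast h1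
    exact (pow_eq_one_iff_of_nonneg (norm_nonneg _) two_ne_zero).1 h2
  have hcen : ∀ q : Q, ∀ y : L, (⟨q, hPC (hQ q.2)⟩ : L) * y = y * ⟨q, hPC (hQ q.2)⟩ :=
    fun q y => Subtype.ext (Subgroup.mem_centralizer_iff.1 y.2 q q.2)
  choose ω hωi hωn hω using fun q : Q => exists_root_scalar χ₀ (hcen q)
  let W : Q →* ℂ :=
    { toFun := ω
      map_one' := by
        refine (mul_eq_right₀ (irr_one_ne_zero χ₀)).1 ?_
        rw [← hω 1 1, mul_one]
        rfl
      map_mul' := fun a b => by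
        refine mul_right_cancel₀ (irr_one_ne_zero χ₀) ?_
        rw [← hω, mul_assoc, ← hω b, ← hω a, mul_one, mul_one]
        rfl }
  refine ⟨fun v => V v χ₀, W.toHomUnits, fun v => ⟨(hV v).integral χ₀, hznorm v⟩,
    fun q => hωn q, fun i hi => ?_⟩
  set ε := br Q i
  set ε' := restr L ε with hε'def
  have hemb : emb L ε' = ε := emb_restr L (suppIn_br i)
  have hεε : ε' * ε' = ε' := emb_injective L (by
    rw [map_mul, hemb, br_idem (hP.1.to_le hQ) hi.prim.2.2.1 (hi.prim.1.mono hQ)])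
  have hεf : ε' * idem M f = ε' := emb_injective L (by
    rw [map_mul, hemb, heQ, hi.mul_sub hP hQ])
  have hεP : FixBy P' ε' := fun x hx => emb_injective L (by
    rw [← cj_emb, hemb]
    exact fixBy_br hi.prim.1 (hPC.trans (centralizer_le_normalizer Q)) _
      (Subgroup.mem_subgroupOf.1 hx))
  obtain ⟨b, hb, hbred, hbT⟩ := exists_lift (M := M) P' hεε hεP
  set C : P → ℂ := fun v => sval χ₀ ((ι v : P') : L) b with hCdef
  have hC : IsCharacter P C :=
    isCharacter_comp (isCharacter_sval χ₀ hb (K := P') hbT) ι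
  have hp1 : ¬ p ∣ orderOf (1 : L) := by rw [orderOf_one]; exact hM.1.not_dvd_one
  have hval : ∀ v : P, C v = (rk p P e i (Q ⊔ Z[(v : G)]) : ℂ) * V v χ₀ := by
    intro v
    set v' : L := ((ι v : P') : L) with hv'def
    have hPE : PElt p v' 1 := ⟨by
      obtain ⟨j, hj⟩ := mem_pSet.1 (mem_pSet_of_mem hP' (ι v).2)
      exact ⟨j, hj⟩, hp1, Commute.one_right _⟩
    have hvP' : Z[v'] ≤ P' := Subgroup.zpowers_le.2 (ι v).2
    have hfixv : FixBy (Z[v'] ⊔ Z[(1 : L)]) ε' :=
      hεP.mono (sup_le hvP' (Subgroup.zpowers_le.2 P'.one_mem))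
    set ε'' := br Z[v'] ε' with hε''def
    have hε'' : ε'' * ε'' = ε'' := br_idem hPE.isPGroup hεε (hεP.mono hvP')
    have hfix'' : FixBy (Z[v'] ⊔ Z[(1 : L)]) ε'' :=
      fixBy_br hfixv ((sup_le_cz hPE).trans (centralizer_le_normalizer _))
    have hCv : C v = val χ₀ v' 1 ε'' := by
      rw [val_eq hM χ₀ hPE hb (hbT _ (ι v).2) (hbT _ P'.one_mem) hε'' hfix''
        (by rw [hbred, br_br_of_le le_rfl]), one_mul]
    set R := Q ⊔ Z[(v : G)] with hRdef
    have hRP : R ≤ P := sup_le hQ (Subgroup.zpowers_le.2 v.2)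
    have hRL : R ≤ L := hRP.trans hPC
    set R' := R.subgroupOf L with hR'def
    have hmapR : R'.map L.subtype = R := Subgroup.map_subgroupOf_eq_of_le hRL
    have hmapv : (Z[v']).map L.subtype = Z[(v : G)] := by
      rw [MonoidHom.map_zpowers]; rfl
    have hvR : Z[v'] ≤ R' :=
      Subgroup.zpowers_le.2 (Subgroup.mem_subgroupOf.2
        (Subgroup.mem_sup_right (Subgroup.mem_zpowers _)))
    have hRP' : R' ≤ P' := fun x hx => Subgroup.mem_subgroupOf.2 (hRP (Subgroup.mem_subgroupOf.1 hx))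
    have hCR : (C[R] : Subgroup G) ≤ L :=
      Subgroup.centralizer_le (SetLike.coe_subset_coe.mpr le_sup_left)
    have hCeq : (C[Z[v']] : Subgroup L) = C[R'] := by
      refine le_antisymm (fun y hy => Subgroup.mem_centralizer_iff.2 fun r hr => Subtype.ext ?_)
        (Subgroup.centralizer_le (SetLike.coe_subset_coe.mpr hvR))
      have hle : R ≤ C[Z[(y : G)]] := sup_le
        (fun q hq => mem_cz.2 (Subgroup.mem_centralizer_iff.1 y.2 q hq))
        (Subgroup.zpowers_le.2 (mem_cz.2 (congrArg Subtype.val (mem_cz.1 hy)).symm))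
      exact mem_cz.1 (hle (Subgroup.mem_subgroupOf.1 hr))
    have hcardC : Nat.card C[Z[v']] = Nat.card C[R] := by
      rw [hCeq, ← hmapR, ← map_centralizer_subtype L R' (hmapR.symm ▸ hCR),
        Subgroup.card_map_of_injective L.subtype_injective]
    set eu := subBlk p P' (idemIn M C[P'] c') v'
    have heu : emb L eu = subPair p P e R := by
      obtain ⟨g, hg, -⟩ := existsUnique_ple hP' hRP'
      have h1 := ple_embPair L (hmapR.symm ▸ hCR) hg
      rw [show embPair L (P', idemIn M C[P'] c') = (P, e) from Prod.ext hmapP hee,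
        show embPair L (R', g) = (R, emb L g) from Prod.ext hmapR rfl] at h1
      have hgpair := PLE.isPair hg hP'
      have hleN : R' ≤ N[Z[v']] := fun x hx => centralizer_le_normalizer _
        (mem_cz.2 (hab' x (hRP' hx) _ (ι v).2))
      obtain ⟨h, hh, -⟩ := existsUnique_nstep hgpair hvR hleN
      have hhe : h = eu :=
        ple_unique hP' (Relation.ReflTransGen.head hh hg) (subBlk_ple hP' (ι v).2)
      subst hhe
      have hblk : IsBlk 𝕜 C[R'] eu := hCeq ▸ hh.1.2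
      have h2 := hh.2.2.2.2.2
      rw [br_eq_self hblk.suppIn] at h2
      have hge : eu = g := by
        by_contra hne
        exact hgpair.2.ne_zero (h2.symm.trans
          (hblk.mul_eq_zero_of_ne (alg_comm le_rfl) hgpair.2 hne))
      rw [hge]
      exact ple_unique hP h1 (subPair_ple hP hRP)
    have hbr : emb L ε'' = br R i := by
      rw [hε''def, ← br_emb_eq, hmapv, hemb, ← br_sup_eq (suppIn_br i), br_br_of_le le_sup_left]
    have hεeu : ε'' * eu = ε'' := emb_injective L (by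
      rw [map_mul, hbr, heu, hi.mul_sub hP hRP])
    obtain ⟨r, hr, hrb⟩ := (hV v).rank ε'' hε'' (suppIn_br _) hεeu
    have hrk : rk p P e i R = r := by
      refine rk_eq (hV v).pos ?_ ?_
      · rw [← heu, beta_emb hM L (PLE.isPair (subBlk_ple hP' (ι v).2) hP').2.idem, ← hcardC,
          ← hcardP]
        exact (hV v).deg
      · rw [← hbr, beta_emb hM L hε'', ← hcardC, ← hcardP]
        exact hrb
    rw [hCv, hr, hrk]
  obtain ⟨m, hm⟩ : ∃ m : ℕ, C 1 = (m : ℂ) := by
    obtain ⟨n, ρ, hρ⟩ := hC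
    exact ⟨n, by rw [← congrFun hρ 1, Representation.char_one, Module.finrank_fin_fun]⟩
  have hone : C 1 = (rk p P e i Q : ℂ) := by
    have h1 := hval 1
    rw [OneMemClass.coe_one, Subgroup.zpowers_one_eq_bot, sup_bot_eq, hm] at h1
    have h2 := congrArg norm h1
    rw [norm_mul, hznorm, mul_one, Complex.norm_natCast, Complex.norm_natCast] at h2
    rw [hm]
    exact_mod_cast h2
  refine ⟨C, hC, hval, fun q => ?_, fun hQP => ?_⟩
  · show sval χ₀ _ b = _
    rw [← hone, mul_comm]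
    show _ = ω q * sval χ₀ ((ι 1 : P') : L) b
    rw [map_one, OneMemClass.coe_one]
    simp only [sval, mul_sum, mul_one]
    refine sum_congr rfl fun g _ => ?_
    rw [show g * ((ι ⟨q, hQ q.2⟩ : P') : L) = (⟨q, hPC (hQ q.2)⟩ : L) * g from (hcen q g).symm, hω]
    ring
  · subst hQP
    obtain ⟨hbi, hpr⟩ := hi.br_isPrim hP.1
    have hjp : IsPrim ε' := by
      refine ⟨fun h => ?_, hεε, fun g hgg h1 h2 => ?_⟩
      · apply hi.ne
        rw [show br Q i = ε from rfl, ← hemb, h, map_zero, zero_mul]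
      · rcases hpr (emb L g) (fun x hx => coeff_emb_not_mem L g hx) (by rw [← map_mul, hgg])
          (by rw [show br Q i = ε from rfl, ← hemb, ← map_mul, h1])
          (by rw [show br Q i = ε from rfl, ← hemb, ← map_mul, h2]) with h | h
        · exact Or.inl (emb_injective L (h.trans (map_zero _).symm))
        · exact Or.inr (emb_injective L (by rw [h, hemb]))
    show sval χ₀ ((ι 1 : P') : L) b = 1
    rw [map_one, OneMemClass.coe_one, ← val_one_eq hM χ₀ hb hεε hbred]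
    exact val_one_prim hM hfB hχ₀ hreg hjp hεf

end CfsgLib.FreeInertial
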