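import Cfsg.Agent.BlocksB.Star.SectionIntegral
import Cfsg.Agent.Blocks.CharExtra

/-!
# Values of idempotents at the identity

An idempotent of the group algebra over the local ring pairs to zero with every class function
vanishing on the elements of order prime to `p`. Its coefficient at the identity is determined by
the character values at the identity.
-/

set_option autoImplicit false
set_option linter.style.haveILetI false
set_option linter.unusedSectionVars false

namespace CfsgLib.FreeInertial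

open Cfsg Finset CfsgLib.Block CfsgLib.Block.Chr CfsgLib.Block.PermTrace CfsgLib.BrauerPairs
  CfsgLib.BlockStar CfsgLib.Char
open scoped ComplexConjugate
open scoped Classical

universe u

variable {M : Ideal AlgInt} [M.IsPrime] {p : ℕ} [Fact p.Prime] [CharP (Residue M) p]
  {G : Type u} [Group G] [Fintype G]

local notation "𝕜" => Residue M
local notation "Z[" x "]" => Subgroup.zpowers x
local notation "C[" Q "]" => Subgroup.centralizer (SetLike.coe Q)

/-- Column orthogonality against an idempotent at a singular element. -/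
theorem sum_sval_mul_singular (hM : IsPModular p M) [Fintype (IrrCharacter G)] {b : LA M G}
    (hb : b * b = b) {h : G} (hh : p ∣ orderOf h) :
    ∑ ξ : IrrCharacter G, sval ξ 1 b * (ξ : G → ℂ) h = 0 := by
  obtain ⟨y', t, hyt, hc, ⟨l, hl⟩, ⟨r, hr, htr⟩, -, -, -, -, -⟩ := exists_pPart hM.1 h
  have hy1 : y'⁻¹ ≠ 1 := by
    intro e
    rw [inv_eq_one] at e
    rw [← hyt, e, one_mul] at hh
    exact hr (hh.trans (orderOf_dvd_of_pow_eq_one htr))
  have hB : IsIntClass M (blockCoeff (Set.univ : Set (IrrCharacter G))) := by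
    rw [blockCoeff_univ]; exact isIntClass_deltaOne
  have hconv : conv (fun g => (b.coeff g : ℂ)) (fun g => (b.coeff g : ℂ)) =
      fun g => (b.coeff g : ℂ) := by
    funext g
    conv_rhs => rw [← hb, coeff_mul']
    push_cast
    rfl
  have hfix : ∀ i : G, (1 : G) * i * (y'⁻¹)⁻¹ ≠ i := fun i e => hy1 (by simpa using e)
  have hblock : block (biPerm (1 : G) y'⁻¹) (0 : Matrix G G (localRing M)) = 0 := by
    rw [block, Matrix.mul_zero, Matrix.zero_mul]
  have hsum := charSum_eq_trace hM (B := (Set.univ : Set (IrrCharacter G))) hB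
    (b := fun g => (b.coeff g : ℂ)) (fun g => (b.coeff g).2) hconv (x := 1) (y := y'⁻¹)
    (s := 1) (t := t) (fun g => by simp) (fun g => by simp) (Commute.refl _) hc.inv_left
    (n := l) (one_pow _) (by rw [inv_pow, hl, inv_one])
    (m := r) hr (one_pow _) htr hblock (by rw [zero_pow (Nat.succ_ne_zero r)])
    (fun i z hi _ => absurd hi (hfix i))
  rw [Matrix.trace_zero, ZeroMemClass.coe_zero] at hsum
  refine Eq.trans ?_ hsum
  rw [show univ.filter (· ∈ (Set.univ : Set (IrrCharacter G))) = univ by simp]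
  refine sum_congr rfl fun ξ _ => ?_
  rw [inv_inv, hyt]
  simp [sval]

/-- **An idempotent kills the class functions vanishing on the regular elements.** -/
theorem sum_coeff_mul_eq_zero (hM : IsPModular p M) {b : LA M G} (hb : b * b = b) {θ : G → ℂ}
    (hθ : IsClassFunction G θ) (h0 : ∀ g, ¬ p ∣ orderOf g → θ g = 0) :
    ∑ g : G, (b.coeff g : ℂ) * θ g = 0 := by
  letI := irrFintype (G := G)
  have h1 : ∑ g : G, (b.coeff g : ℂ) * θ g =
      ∑ ξ : IrrCharacter G, classInner θ (ξ : G → ℂ) * sval ξ 1 b := by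
    simp only [sval, mul_one, mul_sum]
    rw [sum_comm]
    refine sum_congr rfl fun g _ => ?_
    conv_lhs => rw [classFun_expand hθ g, mul_sum]
    exact sum_congr rfl fun ξ _ => by ring
  have h2 : ∀ h : G, ∑ ξ : IrrCharacter G,
      θ h * (conj ((ξ : G → ℂ) h) * sval ξ 1 b) = 0 := by
    intro h
    by_cases hh : p ∣ orderOf h
    · rw [← mul_sum]
      refine mul_eq_zero_of_right _ (Eq.trans (sum_congr rfl fun ξ _ => ?_)
        (sum_sval_mul_singular hM hb (h := h⁻¹) (by rwa [orderOf_inv])))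
      rw [← IsIrrCharacter.apply_inv ξ.2, mul_comm]
    · exact sum_eq_zero fun ξ _ => by rw [h0 h hh, zero_mul]
  rw [h1]
  simp only [CfsgLib.Char.classInner_def, mul_sum, sum_mul]
  rw [sum_comm]
  refine sum_eq_zero fun h _ => Eq.trans ?_ (mul_eq_zero_of_right (Nat.card G : ℂ)⁻¹ (h2 h))
  rw [mul_sum]
  exact sum_congr rfl fun ξ _ => by ring

/-- The regular character at an idempotent. -/
theorem sum_deg_mul_sval [Fintype (IrrCharacter G)] (b : LA M G) :
    ∑ ξ : IrrCharacter G, (ξ : G → ℂ) 1 * sval ξ 1 b = (Nat.card G : ℂ) * (b.coeff 1 : ℂ) := by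
  simp only [sval, mul_one, mul_sum]
  rw [sum_comm, sum_eq_single (1 : G)]
  · have h := column_orth (1 : G) (1 : G)
    rw [if_pos (IsConj.refl _), show Subgroup.centralizer ({(1 : G)} : Set G) = ⊤ from
      eq_top_iff.2 fun z _ => Subgroup.mem_centralizer_singleton_iff.2 (by simp),
      Subgroup.card_top] at h
    rw [← h, sum_mul]
    refine sum_congr rfl fun χ _ => ?_
    rw [(irr_one χ).1, Complex.conj_natCast]
    ring
  · intro g _ hg
    have h := column_orth g (1 : G)
    rw [if_neg fun hc => hg (isConj_one_left.1 hc)] at h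
    rw [← mul_zero (b.coeff g : ℂ), ← h, mul_sum]
    refine sum_congr rfl fun χ _ => ?_
    rw [(irr_one χ).1, Complex.conj_natCast]
    ring
  · simp

theorem pElt_one_one : PElt p (1 : G) 1 :=
  ⟨⟨0, one_pow _⟩, by rw [orderOf_one]; exact (Fact.out : p.Prime).not_dvd_one, Commute.one_left _⟩

theorem fixBy_one_one (ε : MonoidAlgebra 𝕜 G) : FixBy (Z[(1 : G)] ⊔ Z[(1 : G)]) ε := by
  intro t ht
  rw [sup_idem, Subgroup.zpowers_one_eq_bot, Subgroup.mem_bot] at ht
  rw [ht, cj_one]

/-- The value at the identity with any lift. -/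
theorem val_one_eq (hM : IsPModular p M) (χ : IrrCharacter G) {b : LA M G} (hb : b * b = b)
    {ε : MonoidAlgebra 𝕜 G} (hε : ε * ε = ε) (hred : redA b = ε) :
    val χ 1 1 ε = sval χ 1 b := by
  have h1 : Commute (MonoidAlgebra.single (1 : G) (1 : localRing M)) b :=
    (commute_single_iff _ _).2 fun g => by simp
  rw [val_eq hM χ pElt_one_one hb h1 h1 hε (fixBy_one_one ε) (by rw [hred]), one_mul]

/-- The coefficient at the identity of the lifts of an idempotent. -/
noncomputable def beta (ε : MonoidAlgebra 𝕜 G) : ℂ :=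
  letI := irrFintype (G := G)
  (Nat.card G : ℂ)⁻¹ * ∑ χ : IrrCharacter G, (χ : G → ℂ) 1 * val χ 1 1 ε

theorem sum_deg_mul_val (ε : MonoidAlgebra 𝕜 G) [Fintype (IrrCharacter G)] :
    ∑ χ : IrrCharacter G, (χ : G → ℂ) 1 * val χ 1 1 ε = (Nat.card G : ℂ) * beta ε := by
  rw [beta, mul_inv_cancel_left₀ (Nat.cast_ne_zero.2 Nat.card_pos.ne')]
  exact sum_congr (by ext; simp) fun _ _ => rfl

theorem beta_eq (hM : IsPModular p M) {b : LA M G} (hb : b * b = b) {ε : MonoidAlgebra 𝕜 G}
    (hε : ε * ε = ε) (hred : redA b = ε) : beta ε = (b.coeff 1 : ℂ) := by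
  letI := irrFintype (G := G)
  refine mul_left_cancel₀ (Nat.cast_ne_zero.2 (Nat.card_pos (α := G)).ne') ?_
  rw [← sum_deg_mul_val ε, ← sum_deg_mul_sval b]
  exact sum_congr rfl fun χ _ => by rw [val_one_eq hM χ hb hε hred]

theorem exists_lift_plain {ε : MonoidAlgebra 𝕜 G} (hε : ε * ε = ε) :
    ∃ b : LA M G, b * b = b ∧ redA b = ε := by
  obtain ⟨b, h1, h2, -⟩ := exists_lift (M := M) (⊥ : Subgroup G) hε
    (fun t ht => by rw [Subgroup.mem_bot.1 ht, cj_one])
  exact ⟨b, h1, h2⟩

/-- The coefficient does not depend on the subgroup carrying the idempotent. -/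
theorem beta_emb (hM : IsPModular p M) (H : Subgroup G) [Fintype H] {ε : MonoidAlgebra 𝕜 H}
    (hε : ε * ε = ε) : beta (emb H ε) = beta ε := by
  obtain ⟨b, hb, hbred⟩ := exists_lift_plain (M := M) hε
  set φ := MonoidAlgebra.mapDomainAlgHom (localRing M) (localRing M) H.subtype
  have hred : redA (φ b) = emb H ε := by
    rw [← hbred]
    refine coeff_ext fun g => ?_
    by_cases hg : g ∈ H
    · rw [show g = ((⟨g, hg⟩ : H) : G) from rfl, coeff_emb_coe, coeff_redA, coeff_redA]
      congr 1
      simp only [φ, MonoidAlgebra.mapDomainAlgHom_apply, MonoidAlgebra.coeff_mapDomain]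
      exact Finsupp.mapDomain_apply Subtype.coe_injective _ (⟨g, hg⟩ : H)
    · rw [coeff_redA, coeff_emb_not_mem H _ hg, suppIn_of_map b hg, map_zero]
  rw [beta_eq hM (b := φ b) (by rw [← map_mul, hb]) (by rw [← map_mul, hε]) hred,
    beta_eq hM hb hε hbred]
  congr 1
  simp only [φ, MonoidAlgebra.mapDomainAlgHom_apply, MonoidAlgebra.coeff_mapDomain]
  exact Finsupp.mapDomain_apply Subtype.coe_injective b.coeff (1 : H)

end CfsgLib.FreeInertial
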